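import Cfsg.Agent.H885.Nondeg

/-!
`H885.Nondeg.Split.maximal` in the vocabulary of the statements: for a nondegenerate subspace `W` of `F^ι`,
`13 ≤ |ι|`.
-/

set_option autoImplicit false

namespace Cfsg.Agent.H885.NondegGeo

open QuadraticMap Cfsg.Agent.LieClassical.OrthCore Cfsg.Agent.LieClassical.OrthTrans
  Cfsg.Agent.LieClassical.OrthFinite Cfsg.Agent.LieClassical.OrthSimple Cfsg.Agent.H885.RootT
  Cfsg.Agent.H885.Irr Cfsg.Agent.H883.Bridge Cfsg.Agent.H885.Nondeg

section General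

variable {F V : Type*} [Field F] [AddCommGroup V] [Module F V] {Q : QuadraticForm F V}

/-- The orthogonal complement of `W` for the polar form of `Q`. -/
def perp (Q : QuadraticForm F V) (W : Submodule F V) : Submodule F V where
  carrier := {v | ∀ w ∈ W, polar Q w v = 0}
  add_mem' {a b} ha hb := fun w hw => by rw [polar_add_right, ha w hw, hb w hw, add_zero]
  zero_mem' := fun w _ => polar_zero_right _ _
  smul_mem' c v hv := fun w hw => by rw [polar_smul_right, hv w hw, smul_zero]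

theorem mem_perp {W : Submodule F V} {v : V} : v ∈ perp Q W ↔ ∀ w ∈ W, polar Q w v = 0 := Iff.rfl

/-- A nondegenerate subspace splits off. -/
theorem split_perp [Module.Finite F V] {W : Submodule F V} (hW : NdOn Q W) :
    Split Q W (perp Q W) := by
  refine ⟨fun w hw u hu => hu w hw, ?_⟩
  rw [eq_top_iff]
  intro v _
  let B : W →ₗ[F] Module.Dual F W :=
    (LinearMap.lcomp F F W.subtype).comp ((polarBilin Q).comp W.subtype)
  have hB : ∀ x y : W, B x y = polar Q (x : V) (y : V) := fun x y => rfl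
  have hinj : Function.Injective B := by
    rw [← LinearMap.ker_eq_bot, eq_bot_iff]
    intro z hz
    rw [Submodule.mem_bot]
    apply Subtype.ext
    apply hW z z.2
    intro y hy
    have := congrArg (fun f => f ⟨y, hy⟩) (LinearMap.mem_ker.1 hz)
    simpa [hB] using this
  have hsurj : Function.Surjective B :=
    (LinearMap.injective_iff_surjective_of_finrank_eq_finrank (f := B)
      (by rw [Subspace.dual_finrank_eq])).1 hinj
  obtain ⟨w, hw⟩ := hsurj ((polarBilin Q v).comp W.subtype)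
  have h1 : ∀ y : W, polar Q (w : V) (y : V) = polar Q v (y : V) := by
    intro y
    rw [← hB, hw]
    rfl
  rw [Submodule.mem_sup]
  refine ⟨w, w.2, v - w, fun y hy => ?_, add_sub_cancel _ _⟩
  rw [polar_comm, polar_sub_left, h1 ⟨y, hy⟩, sub_self]

/-- **Maximality of the stabiliser of a nondegenerate subspace, symmetric version.** -/
theorem maximal_sym [Finite F] [Module.Finite F V] {W U : Submodule F V} (h : Split Q W U)
    (hQ : Nondeg Q) (hd : 11 ≤ Module.finrank F V) (hW0 : W ≠ ⊥) (hU0 : U ≠ ⊥)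
    (hexW : ¬ (Nat.card F ≤ 3 ∧ Module.finrank F W = 2 ∧ ∃ x ∈ W, x ≠ 0 ∧ Q x = 0))
    (hexU : ¬ (Nat.card F ≤ 3 ∧ Module.finrank F U = 2 ∧ ∃ x ∈ U, x ≠ 0 ∧ Q x = 0))
    (hniso : ∀ g ∈ E Q, U.map (g : V →ₗ[F] V) ≠ W) :
    Cfsg.Geo.IsMaximalIn (E Q) (stab W ⊓ E Q) := by
  have hfr := h.finrank hQ
  rcases le_total (Module.finrank F W) (Module.finrank F U) with hle | hle
  · exact h.maximal hQ (by omega) hle hW0 hexW hniso
  · rw [h.stab_inf_E hQ]
    refine h.symm.maximal hQ (by omega) hle hU0 hexU fun g hg heq => ?_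
    apply hniso g⁻¹ ((E Q).inv_mem hg)
    rw [← heq, ← Submodule.map_comp]
    have : ((g⁻¹ : V ≃ₗ[F] V) : V →ₗ[F] V) ∘ₗ (g : V →ₗ[F] V) = LinearMap.id := by
      ext v
      exact LinearEquiv.symm_apply_apply g v
    rw [this, Submodule.map_id]

end General

section Geo

variable {ι : Type} [Fintype ι] [DecidableEq ι] {F : Type*} [Field F]

omit [Fintype ι] [DecidableEq ι] in
theorem ndOn_of_geo {Q : QuadraticForm F (ι → F)} {W : Submodule F (ι → F)}
    (hW : Cfsg.Geo.IsNondegenerateOn (QuadraticMap.polar Q) W) : NdOn Q W := by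
  intro w hw hall
  by_contra h0
  obtain ⟨-, x, hx, hne⟩ := hW w hw h0
  exact hne (hall x hx)

omit [Fintype ι] [DecidableEq ι] in
theorem geo_of_ndOn {Q : QuadraticForm F (ι → F)} {W : Submodule F (ι → F)} (hW : NdOn Q W) :
    Cfsg.Geo.IsNondegenerateOn (QuadraticMap.polar Q) W := by
  intro w hw h0
  obtain ⟨x, hx, hne⟩ := hW.exists_ne hw h0
  exact ⟨⟨x, hx, by rwa [QuadraticMap.polar_comm]⟩, ⟨x, hx, hne⟩⟩

omit [Fintype ι] [DecidableEq ι] in
theorem plusType_of_sing {Q : QuadraticForm F (ι → F)} {W : Submodule F (ι → F)}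
    (hd : Module.finrank F W = 2) {x : ι → F} (hx : x ∈ W) (hx0 : x ≠ 0) (hQx : Q x = 0) :
    Cfsg.Geo.IsPlusTypeOn Q W := by
  refine ⟨Submodule.span F {x}, ?_, ?_, ?_⟩
  · rw [Submodule.span_singleton_le_iff_mem]
    exact hx
  · intro w hw
    obtain ⟨c, rfl⟩ := Submodule.mem_span_singleton.1 hw
    rw [QuadraticMap.map_smul, hQx, smul_zero]
  · rw [finrank_span_singleton hx0, hd]

/-- **Ready to use.** Stabilisers of nondegenerate subspaces are maximal in `omegaGL Q`, dimension at least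
`11`. -/
theorem subspaceStabilizer_nondegenerate_maximal [Fintype F] {Q : (ι → F) → F}
    (hQ : Cfsg.Geo.IsNondegenerateQuadraticForm Q) (hd : 11 ≤ Fintype.card ι)
    (W : Submodule F (ι → F)) (hW0 : W ≠ ⊥) (hW1 : W ≠ ⊤)
    (hW : Cfsg.Geo.IsNondegenerateOn (QuadraticMap.polar Q) W)
    (hex : ¬ (Fintype.card F ≤ 3 ∧ (∃ U : Submodule F (ι → F), Module.finrank F U = 2 ∧
      Cfsg.Geo.IsNondegenerateOn (QuadraticMap.polar Q) U ∧ Cfsg.Geo.IsPlusTypeOn Q U ∧
      (U = W ∨ (Cfsg.Geo.AreOrthogonalFor (QuadraticMap.polar Q) U W ∧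
        Module.finrank F U + Module.finrank F W = Fintype.card ι)))))
    (hniso : ∀ (Q' : QuadraticForm F (ι → F)) (_ : ⇑Q' = Q) (_ : Nondeg Q')
      (U : Submodule F (ι → F)), Split Q' W U → ∀ g ∈ O Q',
      U.map (g : (ι → F) →ₗ[F] (ι → F)) ≠ W) :
    Cfsg.Geo.IsMaximalIn (Cfsg.Geo.omegaGL Q)
      (Cfsg.Geo.subspaceStabilizer W ⊓ Cfsg.Geo.omegaGL Q) := by
  refine subspaceStabilizer_maximal hQ (by omega) W fun Q' hQ' hG => ?_
  subst hQ'
  have hnd := ndOn_of_geo hW
  have hs := split_perp hnd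
  have hfr := hs.finrank hG.nondeg
  rw [Module.finrank_fintype_fun_eq_card] at hfr
  refine maximal_sym hs hG.nondeg (by rwa [Module.finrank_fintype_fun_eq_card]) hW0 ?_ ?_ ?_ ?_
  · intro h0
    apply hW1
    have := hs.sup
    rwa [h0, sup_bot_eq] at this
  · rintro ⟨h1, h2, x, hx, hx0, hQx⟩
    rw [Nat.card_eq_fintype_card] at h1
    exact hex ⟨h1, W, h2, hW, plusType_of_sing h2 hx hx0 hQx, Or.inl rfl⟩
  · rintro ⟨h1, h2, x, hx, hx0, hQx⟩
    rw [Nat.card_eq_fintype_card] at h1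
    refine hex ⟨h1, perp Q' W, h2, geo_of_ndOn (hs.ndOn_right hG.nondeg),
      plusType_of_sing h2 hx hx0 hQx, Or.inr ⟨fun u hu w hw => hs.perp' hu hw, by omega⟩⟩
  · intro g hg
    exact hniso Q' rfl hG.nondeg _ hs g (E_le_O hg)

end Geo

end Cfsg.Agent.H885.NondegGeo
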