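import Cfsg.Agent.H885.RootT

/-!
Irreducibility of the group generated by the reflections and the Siegel transformations of a nondegenerate
subspace `W` on `W` (`irr_sub`): the only exception over a finite field is a hyperbolic plane over a field of at
most three elements.
-/

set_option autoImplicit false

namespace Cfsg.Agent.H885.Irr

open QuadraticMap Cfsg.Agent.LieClassical.OrthCore Cfsg.Agent.LieClassical.OrthTrans
  Cfsg.Agent.LieClassical.OrthFinite Cfsg.Agent.LieClassical.OrthSimple Cfsg.Agent.H885.RootT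

variable {F V : Type*} [Field F] [AddCommGroup V] [Module F V] {Q : QuadraticForm F V}

/-- Nonzero vectors of `W` orthogonal to fewer than `finrank W` given vectors. -/
theorem exists_mem_perp {n : ℕ} (u : Fin n → V) (W : Submodule F V)
    (hn : n < Module.finrank F W) : ∃ w ∈ W, w ≠ 0 ∧ ∀ i, polar Q (u i) w = 0 := by
  let f : W →ₗ[F] (Fin n → F) := LinearMap.pi fun i => (polarBilin Q (u i)).comp W.subtype
  have : Module.Finite F W := Module.finite_of_finrank_pos (by omega)
  have hker : LinearMap.ker f ≠ ⊥ := by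
    apply LinearMap.ker_ne_bot_of_finrank_lt
    rw [Module.finrank_fin_fun]
    exact hn
  obtain ⟨w, hw, hw0⟩ := Submodule.exists_mem_ne_zero_of_ne_bot hker
  refine ⟨w, w.2, fun h => hw0 (Subtype.ext h), fun i => ?_⟩
  have := congrFun (LinearMap.mem_ker.1 hw) i
  simpa [f] using this

/-- Nonzero singular vectors of `W` orthogonal to `n` given vectors, `n + 3 ≤ finrank W`. -/
theorem exists_sing_mem_perp [Finite F] {n : ℕ} (u : Fin n → V) (W : Submodule F V)
    (hn : n + 3 ≤ Module.finrank F W) :
    ∃ w ∈ W, w ≠ 0 ∧ Q w = 0 ∧ ∀ i, polar Q (u i) w = 0 := by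
  let f : W →ₗ[F] (Fin n → F) := LinearMap.pi fun i => (polarBilin Q (u i)).comp W.subtype
  have : Module.Finite F W := Module.finite_of_finrank_pos (by omega)
  have h1 := LinearMap.finrank_range_add_finrank_ker f
  have h2 : Module.finrank F (LinearMap.range f) ≤ n := by
    refine le_trans (Submodule.finrank_le _) ?_
    rw [Module.finrank_fin_fun]
  obtain ⟨w, hw, hw0, hQw⟩ := exists_sing_mem (Q := Q.comp W.subtype) (LinearMap.ker f) (by omega)
  refine ⟨w, w.2, fun h => hw0 (Subtype.ext h), hQw, fun i => ?_⟩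
  have := congrFun (LinearMap.mem_ker.1 hw) i
  simpa [f] using this

/-- The restriction of the form to `W` is nondegenerate (elementary terms). -/
def NdOn (Q : QuadraticForm F V) (W : Submodule F V) : Prop :=
  ∀ w ∈ W, (∀ y ∈ W, polar Q w y = 0) → w = 0

theorem NdOn.exists_ne {W : Submodule F V} (h : NdOn Q W) {w : V} (hw : w ∈ W) (hw0 : w ≠ 0) :
    ∃ y ∈ W, polar Q w y ≠ 0 := by
  by_contra hcon
  push Not at hcon
  exact hw0 (h w hw hcon)

section

variable {W Z : Submodule F V}

/-- A nonsingular vector of `W` not orthogonal to an element of `Z` lies in `Z`. -/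
theorem mem_of_refl (hr : ∀ v ∈ W, ∀ hv : Q v ≠ 0, ∀ z ∈ Z, refl Q v hv z ∈ Z) {v z : V}
    (hv : v ∈ W) (hQv : Q v ≠ 0) (hz : z ∈ Z) (hvz : polar Q v z ≠ 0) : v ∈ Z := by
  have h1 := Z.sub_mem hz (hr v hv hQv z hz)
  rw [refl_apply, sub_sub_cancel] at h1
  exact (Z.smul_mem_iff (mul_ne_zero (inv_ne_zero hQv) hvz)).1 h1

theorem eq_of_sing_mem (hZW : Z ≤ W) (hW : NdOn Q W)
    (hr : ∀ v ∈ W, ∀ hv : Q v ≠ 0, ∀ z ∈ Z, refl Q v hv z ∈ Z) {x : V} (hx : x ∈ Z)
    (hx0 : x ≠ 0) (hQx : Q x = 0) : Z = W := by
  have key : ∀ y ∈ W, polar Q x y ≠ 0 → y ∈ Z := by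
    intro y hy hxy
    have hyx : polar Q y x ≠ 0 := by rwa [polar_comm]
    set y' := y - (Q y * (polar Q x y)⁻¹) • x with hy'
    have h1 : Q y' = 0 := by
      rw [hy', sub_eq_add_neg, Q_add, QuadraticMap.map_neg, polar_neg_right, QuadraticMap.map_smul,
        polar_smul_right, hQx, polar_comm Q y x]
      simp only [smul_eq_mul]
      field_simp
      ring
    have h2 : polar Q x y' = polar Q x y := by
      rw [hy', polar_sub_right, polar_smul_right, polar_self_of_sing hQx, smul_zero, sub_zero]
    have h3 : polar Q y' x = polar Q x y := by rw [polar_comm, h2]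
    have h4 : Q (y' - x) = - polar Q x y := by
      rw [sub_eq_add_neg, Q_add, QuadraticMap.map_neg, polar_neg_right, h1, hQx, h3]
      ring
    have hyW : y' ∈ W := W.sub_mem hy (W.smul_mem _ (hZW hx))
    have h5 : y' - x ∈ Z := by
      refine mem_of_refl hr (W.sub_mem hyW (hZW hx)) ?_ hx ?_
      · rw [h4]; exact neg_ne_zero.2 hxy
      · rw [polar_sub_left, h3, polar_self_of_sing hQx, sub_zero]; exact hxy
    have h6 : y' ∈ Z := by
      have := Z.add_mem h5 hx
      rwa [sub_add_cancel] at this
    have := Z.add_mem h6 (Z.smul_mem (Q y * (polar Q x y)⁻¹) hx)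
    rwa [hy', sub_add_cancel] at this
  apply le_antisymm hZW
  intro y hy
  by_cases hxy : polar Q x y = 0
  · obtain ⟨y₁, hy₁, h1⟩ := hW.exists_ne (hZW hx) hx0
    have h2 : y + y₁ ∈ Z := key _ (W.add_mem hy hy₁) (by rw [polar_add_right, hxy, zero_add]; exact h1)
    have h3 := key _ hy₁ h1
    have := Z.sub_mem h2 h3
    rwa [add_sub_cancel_right] at this
  · exact key y hy hxy

end

/-- **Irreducibility on a nondegenerate subspace.** -/
theorem irr_sub [Finite F] {W Z : Submodule F V} (hZW : Z ≤ W) (hW : NdOn Q W) (hZ0 : Z ≠ ⊥)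
    (hr : ∀ v ∈ W, ∀ hv : Q v ≠ 0, ∀ z ∈ Z, refl Q v hv z ∈ Z)
    (hs : ∀ x ∈ W, ∀ w ∈ W, ∀ (hx : Q x = 0) (hw : polar Q x w = 0), ∀ z ∈ Z,
      siegel Q x w hx hw z ∈ Z)
    (hex : ¬ (Nat.card F ≤ 3 ∧ Module.finrank F W = 2 ∧ ∃ x ∈ W, x ≠ 0 ∧ Q x = 0))
    [Module.Finite F V] : Z = W := by
  classical
  by_cases hsing : ∃ x ∈ Z, x ≠ 0 ∧ Q x = 0
  · obtain ⟨x, hx, hx0, hQx⟩ := hsing
    exact eq_of_sing_mem hZW hW hr hx hx0 hQx
  push Not at hsing
  obtain ⟨z, hz, hz0⟩ := Submodule.exists_mem_ne_zero_of_ne_bot hZ0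
  have hc : Q z ≠ 0 := hsing z hz hz0
  by_contra hne
  have hnle : ¬ W ≤ Z := fun h => hne (le_antisymm hZW h)
  obtain ⟨v₀, hv₀, hv₀Z⟩ := SetLike.not_le_iff_exists.1 hnle
  -- a vector of `W` outside `Z` not orthogonal to `z`
  obtain ⟨v, hv, hvZ, hb⟩ : ∃ v ∈ W, v ∉ Z ∧ polar Q v z ≠ 0 := by
    by_cases h0 : polar Q v₀ z = 0
    · obtain ⟨y, hy, hyz⟩ := hW.exists_ne (hZW hz) hz0
      rw [polar_comm] at hyz
      by_cases hyZ : y ∈ Z
      · refine ⟨v₀ + y, W.add_mem hv₀ hy, fun h => hv₀Z ?_, ?_⟩
        · have := Z.sub_mem h hyZ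
          rwa [add_sub_cancel_right] at this
        · rw [polar_add_left, h0, zero_add]; exact hyz
      · exact ⟨y, hy, hyZ, hyz⟩
    · exact ⟨v₀, hv₀, hv₀Z, h0⟩
  -- vectors of `W` outside `Z` not orthogonal to `z` are singular
  have hsg : ∀ y ∈ W, y ∉ Z → polar Q y z ≠ 0 → Q y = 0 := by
    intro y hy hyZ hyz
    by_contra hQy
    exact hyZ (mem_of_refl hr hy hQy hz hyz)
  have hQv := hsg v hv hvZ hb
  have hv0 : v ≠ 0 := by rintro rfl; exact hvZ Z.zero_mem
  have htarg : ∀ t : F, polar Q v z + 2 * t * Q z ≠ 0 → t * (t * Q z + polar Q v z) = 0 := by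
    intro t ht
    have h1 : v + t • z ∉ Z := fun h => hvZ (by
      have := Z.sub_mem h (Z.smul_mem t hz)
      rwa [add_sub_cancel_right] at this)
    have h2 := hsg (v + t • z) (W.add_mem hv (W.smul_mem t (hZW hz))) h1 (by
      rw [polar_add_left, polar_smul_left, polar_self', smul_eq_mul]
      intro h
      apply ht
      rw [← h]; ring)
    rw [Q_add, QuadraticMap.map_smul, polar_smul_right, hQv] at h2
    simp only [smul_eq_mul] at h2
    rw [← h2]
    ring
  by_cases h2 : (2 : F) = 0
  · -- characteristic two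
    have hone : ∀ a : F, a ≠ 0 → a = 1 := by
      have h3 : ∀ t : F, t ≠ 0 → t * Q z = - polar Q v z := by
        intro t ht
        have := htarg t (by rw [h2]; simpa using hb)
        rcases mul_eq_zero.1 this with h | h
        · exact absurd h ht
        · linear_combination h
      intro a ha
      have h4 := h3 a ha
      have h5 := h3 1 one_ne_zero
      rw [← h5] at h4
      exact mul_right_cancel₀ hc h4
    have hcard : Nat.card F ≤ 3 := by
      have : Fintype F := Fintype.ofFinite F
      have h3 : (Finset.univ : Finset F) ⊆ {0, 1} := by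
        intro a _
        by_cases ha : a = 0
        · simp [ha]
        · simp [hone a ha]
      have h4 := Finset.card_le_card h3
      have h5 : ({0, 1} : Finset F).card ≤ 2 := Finset.card_le_two
      rw [Nat.card_eq_fintype_card, ← Finset.card_univ]
      omega
    have hdim2 : Module.finrank F W ≠ 2 := fun h => hex ⟨hcard, h, v, hv, hv0, hQv⟩
    have hdim : 3 ≤ Module.finrank F W := by
      -- `v, z` are independent in `W`
      have hli : LinearIndependent F ![(⟨v, hv⟩ : W), ⟨z, hZW hz⟩] := by
        rw [LinearIndependent.pair_iff]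
        intro s t hst
        have hst' : s • v + t • z = 0 := congrArg Subtype.val hst
        have hs0 : s = 0 := by
          by_contra hs0
          apply hvZ
          have : s • v ∈ Z := by
            have h6 : s • v = - (t • z) := eq_neg_of_add_eq_zero_left hst'
            rw [h6]
            exact Z.neg_mem (Z.smul_mem _ hz)
          exact (Z.smul_mem_iff hs0).1 this
        refine ⟨hs0, ?_⟩
        rw [hs0, zero_smul, zero_add] at hst'
        rcases smul_eq_zero.1 hst' with h | h
        · exact h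
        · exact absurd h hz0
      have := hli.fintype_card_le_finrank
      simp only [Fintype.card_fin] at this
      omega
    obtain ⟨w, hw, hw0, hwp⟩ := exists_mem_perp (Q := Q) ![z, v] W (by omega)
    have hzw : polar Q z w = 0 := hwp 0
    have hvw : polar Q v w = 0 := hwp 1
    obtain ⟨x, hx, hx0, hQx, hzx⟩ : ∃ x ∈ W, x ≠ 0 ∧ Q x = 0 ∧ polar Q z x = 0 := by
      by_cases hQw : Q w = 0
      · exact ⟨w, hw, hw0, hQw, hzw⟩
      · refine ⟨w + z, W.add_mem hw (hZW hz), ?_, ?_, ?_⟩
        · intro h
          apply hb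
          have h6 : polar Q v (w + z) = 0 := by rw [h, polar_zero_right]
          rwa [polar_add_right, hvw, zero_add] at h6
        · rw [Q_add, hone _ hQw, hone _ hc, polar_comm Q w z, hzw, add_zero, ← h2]
          ring
        · rw [polar_add_right, hzw, polar_self', h2, zero_mul, add_zero]
    obtain ⟨y, hy, hxy, hyz⟩ : ∃ y ∈ W, polar Q x y = 0 ∧ polar Q y z ≠ 0 := by
      by_contra hcon
      push Not at hcon
      obtain ⟨y₀, hy₀, h3⟩ := hW.exists_ne hx hx0
      have h4 : z - (polar Q z y₀ * (polar Q x y₀)⁻¹) • x = 0 := by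
        refine hW _ (W.sub_mem (hZW hz) (W.smul_mem _ hx)) fun y hy => ?_
        have h5 := hcon (y - (polar Q x y * (polar Q x y₀)⁻¹) • y₀)
          (W.sub_mem hy (W.smul_mem _ hy₀)) (by
            rw [polar_sub_right, polar_smul_right, smul_eq_mul, mul_assoc, inv_mul_cancel₀ h3]
            ring)
        rw [polar_sub_left, polar_smul_left, smul_eq_mul, polar_comm Q y z,
          polar_comm Q y₀ z] at h5
        rw [polar_sub_left, polar_smul_left, smul_eq_mul]
        linear_combination h5
      apply hc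
      rw [sub_eq_zero] at h4
      rw [h4, QuadraticMap.map_smul, hQx, smul_zero]
    have h3 := hs x hx y hy hQx hxy z hz
    rw [siegel_apply, polar_comm Q x z, hzx] at h3
    have h4 := Z.sub_mem hz h3
    have h5 : z - (z + (0 : F) • y - polar Q y z • x - (Q y * 0) • x) = polar Q y z • x := by
      module
    rw [h5] at h4
    exact hsing x ((Z.smul_mem_iff hyz).1 h4) hx0 hQx
  · -- odd characteristic
    have hdim : 3 ≤ Module.finrank F W → False := by
      intro hdim
      -- a vector of `W` orthogonal to `z`, outside `Z`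
      have key : ∀ w ∈ W, w ∉ Z → polar Q w z = 0 → Q w = - Q z := by
        intro w hw hwZ hwz
        have h3 : z + w ∉ Z := fun h => hwZ (by
          have := Z.sub_mem h hz
          rwa [add_sub_cancel_left] at this)
        have h4 := hsg (z + w) (W.add_mem (hZW hz) hw) h3 (by
          rw [polar_add_left, polar_self', hwz, add_zero]
          exact mul_ne_zero h2 hc)
        rw [Q_add, polar_comm Q z w, hwz] at h4
        linear_combination h4
      set w₁ := v - (polar Q v z * (2 * Q z)⁻¹) • z with hw₁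
      have h2c : 2 * Q z ≠ 0 := mul_ne_zero h2 hc
      have hw₁W : w₁ ∈ W := W.sub_mem hv (W.smul_mem _ (hZW hz))
      have hw₁Z : w₁ ∉ Z := fun h => hvZ (by
        have := Z.add_mem h (Z.smul_mem (polar Q v z * (2 * Q z)⁻¹) hz)
        rwa [hw₁, sub_add_cancel] at this)
      have hw₁z : polar Q w₁ z = 0 := by
        rw [hw₁, polar_sub_left, polar_smul_left, polar_self', smul_eq_mul, mul_assoc,
          inv_mul_cancel₀ h2c]
        ring
      have hQw₁ := key w₁ hw₁W hw₁Z hw₁z
      obtain ⟨w₂, hw₂, hw₂0, hw₂p⟩ := exists_mem_perp (Q := Q) ![z, w₁] W (by omega)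
      have hzw₂ : polar Q z w₂ = 0 := hw₂p 0
      have hw₁w₂ : polar Q w₁ w₂ = 0 := hw₂p 1
      have hw₂z : polar Q w₂ z = 0 := by rw [polar_comm]; exact hzw₂
      by_cases hw₂Z : w₂ ∈ Z
      · have h3 : w₁ + w₂ ∉ Z := fun h => hw₁Z (by
          have := Z.sub_mem h hw₂Z
          rwa [add_sub_cancel_right] at this)
        have h4 := key _ (W.add_mem hw₁W hw₂) h3 (by rw [polar_add_left, hw₁z, hw₂z, add_zero])
        rw [Q_add, hw₁w₂, hQw₁] at h4
        exact hsing w₂ hw₂Z hw₂0 (by linear_combination h4)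
      · have hQw₂ := key w₂ hw₂ hw₂Z hw₂z
        have h3 : w₁ + w₂ ∈ Z := by
          by_contra h3
          have h4 := key _ (W.add_mem hw₁W hw₂) h3 (by rw [polar_add_left, hw₁z, hw₂z, add_zero])
          rw [Q_add, hw₁w₂, hQw₁, hQw₂] at h4
          exact hc (by linear_combination -h4)
        have h4 : w₁ - w₂ ∈ Z := by
          by_contra h3
          have h4 := key _ (W.sub_mem hw₁W hw₂) h3 (by rw [polar_sub_left, hw₁z, hw₂z, sub_zero])
          rw [sub_eq_add_neg, Q_add, QuadraticMap.map_neg, polar_neg_right, hw₁w₂, hQw₁,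
            hQw₂] at h4
          exact hc (by linear_combination -h4)
        have h5 : (2 : F) • w₁ ∈ Z := by
          have := Z.add_mem h3 h4
          have e : w₁ + w₂ + (w₁ - w₂) = (2 : F) • w₁ := by module
          rwa [e] at this
        exact hw₁Z ((Z.smul_mem_iff h2).1 h5)
    have hdim2 : Module.finrank F W = 2 := by
      have hli : LinearIndependent F ![(⟨v, hv⟩ : W), ⟨z, hZW hz⟩] := by
        rw [LinearIndependent.pair_iff]
        intro s t hst
        have hst' : s • v + t • z = 0 := congrArg Subtype.val hst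
        have hs0 : s = 0 := by
          by_contra hs0
          apply hvZ
          have : s • v ∈ Z := by
            have h6 : s • v = - (t • z) := eq_neg_of_add_eq_zero_left hst'
            rw [h6]
            exact Z.neg_mem (Z.smul_mem _ hz)
          exact (Z.smul_mem_iff hs0).1 this
        refine ⟨hs0, ?_⟩
        rw [hs0, zero_smul, zero_add] at hst'
        rcases smul_eq_zero.1 hst' with h | h
        · exact h
        · exact absurd h hz0
      have := hli.fintype_card_le_finrank
      simp only [Fintype.card_fin] at this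
      by_contra h
      exact hdim (by omega)
    apply hex
    refine ⟨?_, hdim2, v, hv, hv0, hQv⟩
    have : Fintype F := Fintype.ofFinite F
    have h3 : (Finset.univ : Finset F) ⊆
        {0, - (polar Q v z * (Q z)⁻¹), - (polar Q v z * (2 * Q z)⁻¹)} := by
      intro t _
      by_contra ht
      simp only [Finset.mem_insert, Finset.mem_singleton, not_or] at ht
      obtain ⟨h4, h5, h6⟩ := ht
      have h7 := htarg t (fun h => h6 (by
        have h2c : 2 * Q z ≠ 0 := mul_ne_zero h2 hc
        field_simp
        linear_combination h))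
      rcases mul_eq_zero.1 h7 with h | h
      · exact h4 h
      · apply h5
        field_simp
        linear_combination h
    have h4 := Finset.card_le_card h3
    have h5 : ({0, - (polar Q v z * (Q z)⁻¹), - (polar Q v z * (2 * Q z)⁻¹)} : Finset F).card ≤ 3 :=
      Finset.card_le_three
    rw [Nat.card_eq_fintype_card, ← Finset.card_univ]
    omega

end Cfsg.Agent.H885.Irr
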