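import Cfsg.Agent.H885.C2NonRigid

/-!
Orthogonal decompositions into hyperbolic planes: torus elements, and the criterion `E_le_of_mem_T`.
-/

set_option autoImplicit false
set_option linter.unusedSectionVars false

namespace Cfsg.Agent.H885.HypCore

open QuadraticMap Cfsg.Agent.LieClassical.OrthCore Cfsg.Agent.LieClassical.OrthTrans
  Cfsg.Agent.LieClassical.OrthFinite Cfsg.Agent.LieClassical.OrthSimple Cfsg.Agent.H883.Bridge
  Cfsg.Agent.H885.RootT Cfsg.Agent.H885.Irr Cfsg.Agent.H885.C2Scalar Cfsg.Agent.H885.C2Conn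
  Cfsg.Agent.H886.Decomp Cfsg.Agent.H885.C2Rigid Cfsg.Agent.H885.C2Trans
  Cfsg.Agent.H885.C2NonRigid

variable {F V : Type*} [Field F] [AddCommGroup V] [Module F V] {Q : QuadraticForm F V} {t : ℕ}
  {D : Fin t → Submodule F V} {p : Fin t → V →ₗ[F] V} {M : Subgroup (V ≃ₗ[F] V)}
  {e f : Fin t → V}

/-! ### Torus elements of a hyperbolic plane -/

theorem Q_comb {a b : V} (h : Hyp Q a b) (x y : F) : Q (x • a + y • b) = x * y := by
  rw [Q_add, QuadraticMap.map_smul, QuadraticMap.map_smul, polar_smul_left, polar_smul_right,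
    h.left, h.right, h.pair]
  simp

theorem Q_gamma {a b : V} (h : Hyp Q a b) {γ : F} (hγ : γ ≠ 0) :
    Q (γ • a + γ⁻¹ • b) ≠ 0 := by
  rw [Q_comb h, mul_inv_cancel₀ hγ]
  exact one_ne_zero

theorem Q_one {a b : V} (h : Hyp Q a b) : Q (a + b) = 1 := by
  have := Q_comb h 1 1
  rwa [one_smul, one_smul, one_mul] at this

theorem Q_one_ne {a b : V} (h : Hyp Q a b) : Q (a + b) ≠ 0 := by
  rw [Q_one h]
  exact one_ne_zero

/-- The torus element with eigenvalues `γ²`, `γ⁻²` on the hyperbolic pair `a`, `b`. -/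
noncomputable def tor {a b : V} (h : Hyp Q a b) {γ : F} (hγ : γ ≠ 0) : V ≃ₗ[F] V :=
  refl Q (γ • a + γ⁻¹ • b) (Q_gamma h hγ) * refl Q (a + b) (Q_one_ne h)

theorem tor_apply {a b : V} (h : Hyp Q a b) {γ : F} (hγ : γ ≠ 0) (x : V) :
    tor h hγ x = x + ((γ ^ 2 - 1) * polar Q b x) • a + (((γ⁻¹) ^ 2 - 1) * polar Q a x) • b := by
  have e1 : refl Q (a + b) (Q_one_ne h) x = x - (polar Q a x + polar Q b x) • (a + b) := by
    rw [refl_apply, Q_one h, inv_one, one_mul, polar_add_left]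
  have e2 : (Q (γ • a + γ⁻¹ • b))⁻¹ = 1 := by
    rw [Q_comb h, mul_inv_cancel₀ hγ, inv_one]
  have hba : polar Q b a = 1 := by rw [polar_comm]; exact h.pair
  show refl Q (γ • a + γ⁻¹ • b) (Q_gamma h hγ) (refl Q (a + b) (Q_one_ne h) x) = _
  rw [e1, refl_apply, e2, one_mul, polar_add_left, polar_smul_left, polar_smul_left,
    polar_sub_right, polar_sub_right, polar_smul_right, polar_smul_right, polar_add_right,
    polar_add_right, polar_self_of_sing h.left, polar_self_of_sing h.right, h.pair, hba]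
  simp only [smul_eq_mul]
  match_scalars
  · ring
  · field_simp
    ring
  · field_simp
    ring

theorem tor_left {a b : V} (h : Hyp Q a b) {γ : F} (hγ : γ ≠ 0) :
    tor h hγ a = (γ ^ 2) • a := by
  have hba : polar Q b a = 1 := by rw [polar_comm]; exact h.pair
  rw [tor_apply, hba, polar_self_of_sing h.left]
  module

theorem tor_right {a b : V} (h : Hyp Q a b) {γ : F} (hγ : γ ≠ 0) :
    tor h hγ b = ((γ⁻¹) ^ 2) • b := by
  rw [tor_apply, h.pair, polar_self_of_sing h.right]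
  module

theorem tor_fix {a b : V} (h : Hyp Q a b) {γ : F} (hγ : γ ≠ 0) {x : V} (h1 : polar Q a x = 0)
    (h2 : polar Q b x = 0) : tor h hγ x = x := by
  rw [tor_apply, h1, h2]
  simp

theorem tor_mem [FiniteDimensional F V] (hd : Dec Q D p) (hG : Good Q) {i : Fin t} {a b : V}
    (ha : a ∈ D i) (hb : b ∈ D i) (h : Hyp Q a b) {γ : F} (hγ : γ ≠ 0) :
    tor h hγ ∈ stabFamily D ⊓ E Q := by
  refine hd.refl_mul_refl_mem hG ((D i).add_mem ((D i).smul_mem _ ha) ((D i).smul_mem _ hb))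
    ((D i).add_mem ha hb) _ _ ?_
  rw [Q_comb h, Q_one h, mul_inv_cancel₀ hγ]

theorem exists_gamma [Finite F] (hF : 7 ≤ Nat.card F) :
    ∃ γ : F, γ ≠ 0 ∧ γ ^ 2 ≠ 1 ∧ γ ^ 2 ≠ -1 := by
  classical
  obtain ⟨s, hs, hs', -⟩ := exists_sqrt_set (1 : F) 1 one_ne_zero
  obtain ⟨r, hr, hr', -⟩ := exists_sqrt_set (1 : F) (-1) one_ne_zero
  have hcard : (insert 0 (s ∪ r)).card < Nat.card F := by
    have h1 : (insert 0 (s ∪ r)).card ≤ (s ∪ r).card + 1 := Finset.card_insert_le _ _
    have h3 := Finset.card_union_le s r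
    omega
  obtain ⟨m, hm⟩ := exists_avoid _ hcard
  simp only [Finset.mem_insert, Finset.mem_union, not_or] at hm
  obtain ⟨hm0, hms, hmr⟩ := hm
  exact ⟨m, hm0, fun h => hms (hs' m (by rw [one_mul, h])), fun h => hmr (hr' m (by rw [one_mul, h]))⟩

/-- A subspace invariant under a torus element contains the eigencomponents of its elements. -/
theorem torus_split {a b : V} (h : Hyp Q a b) {γ : F} (hγ : γ ≠ 0) (h1 : γ ^ 2 ≠ 1)
    (h2 : γ ^ 2 ≠ -1) {K : Submodule F V} (hK : ∀ w ∈ K, tor h hγ w ∈ K) {x : V} (hx : x ∈ K) :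
    (polar Q b x ≠ 0 → a ∈ K) ∧ (polar Q a x ≠ 0 → b ∈ K) := by
  have hd : ((γ ^ 2 - 1) * polar Q b x) • a + (((γ⁻¹) ^ 2 - 1) * polar Q a x) • b ∈ K := by
    have := K.sub_mem (hK x hx) hx
    rw [tor_apply, add_assoc, add_sub_cancel_left] at this
    exact this
  have hd' := hK _ hd
  rw [map_add, map_smul, map_smul, tor_left, tor_right] at hd'
  have hγ2 : γ ^ 2 ≠ 0 := pow_ne_zero 2 hγ
  have h4 : γ ^ 2 - (γ⁻¹) ^ 2 ≠ 0 := by
    intro h0
    have h5 : (γ ^ 2 - 1) * (γ ^ 2 + 1) = 0 := by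
      have h6 : γ * γ⁻¹ = 1 := mul_inv_cancel₀ hγ
      have h7 : γ ^ 2 * (γ⁻¹) ^ 2 = 1 := by rw [← mul_pow, h6, one_pow]
      linear_combination γ ^ 2 * h0 + h7
    rcases mul_eq_zero.1 h5 with h | h
    · exact h1 (by linear_combination h)
    · exact h2 (by linear_combination h)
  have h3 : γ ^ 2 - 1 ≠ 0 := fun h => h1 (by linear_combination h)
  have h3' : (γ⁻¹) ^ 2 - 1 ≠ 0 := by
    intro h0
    apply h1
    have h6 : γ * γ⁻¹ = 1 := mul_inv_cancel₀ hγ
    have h7 : γ ^ 2 * (γ⁻¹) ^ 2 = 1 := by rw [← mul_pow, h6, one_pow]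
    linear_combination h7 - γ ^ 2 * h0
  refine ⟨fun hb => ?_, fun ha => ?_⟩
  · have h5 := K.sub_mem hd' (K.smul_mem ((γ⁻¹) ^ 2) hd)
    have h6 : ((γ ^ 2 - 1) * polar Q b x) • (γ ^ 2) • a +
        (((γ⁻¹) ^ 2 - 1) * polar Q a x) • ((γ⁻¹) ^ 2) • b -
        ((γ⁻¹) ^ 2) • (((γ ^ 2 - 1) * polar Q b x) • a + (((γ⁻¹) ^ 2 - 1) * polar Q a x) • b) =
        ((γ ^ 2 - (γ⁻¹) ^ 2) * ((γ ^ 2 - 1) * polar Q b x)) • a := by module
    rw [h6] at h5
    exact (K.smul_mem_iff (mul_ne_zero h4 (mul_ne_zero h3 hb))).1 h5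
  · have h5 := K.sub_mem hd' (K.smul_mem (γ ^ 2) hd)
    have h6 : ((γ ^ 2 - 1) * polar Q b x) • (γ ^ 2) • a +
        (((γ⁻¹) ^ 2 - 1) * polar Q a x) • ((γ⁻¹) ^ 2) • b -
        (γ ^ 2) • (((γ ^ 2 - 1) * polar Q b x) • a + (((γ⁻¹) ^ 2 - 1) * polar Q a x) • b) =
        (-(γ ^ 2 - (γ⁻¹) ^ 2) * (((γ⁻¹) ^ 2 - 1) * polar Q a x)) • b := by module
    rw [h6] at h5
    exact (K.smul_mem_iff (mul_ne_zero (neg_ne_zero.2 h4) (mul_ne_zero h3' ha))).1 h5

/-- Coordinates in a hyperbolic plane. -/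
theorem coord {W : Submodule F V} (hW : Module.finrank F W = 2) {a b : V} (ha : a ∈ W)
    (hb : b ∈ W) (h : Hyp Q a b) {x : V} (hx : x ∈ W) :
    x = polar Q b x • a + polar Q a x • b := by
  have hba : polar Q b a = 1 := by rw [polar_comm]; exact h.pair
  have hli : LinearIndependent F ![a, b] := by
    rw [LinearIndependent.pair_iff]
    intro s r hsr
    have h1 : polar Q b (s • a + r • b) = 0 := by rw [hsr, polar_zero_right]
    have h2 : polar Q a (s • a + r • b) = 0 := by rw [hsr, polar_zero_right]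
    rw [polar_add_right, polar_smul_right, polar_smul_right, hba, polar_self_of_sing h.right] at h1
    rw [polar_add_right, polar_smul_right, polar_smul_right, h.pair,
      polar_self_of_sing h.left] at h2
    simp only [smul_eq_mul] at h1 h2
    exact ⟨by linear_combination h1, by linear_combination h2⟩
  have hle : Submodule.span F (Set.range ![a, b]) ≤ W := by
    rw [Submodule.span_le]
    rintro _ ⟨i, rfl⟩
    fin_cases i
    · exact ha
    · exact hb
  have : Module.Finite F W := Module.finite_of_finrank_pos (by omega)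
  have heq : Submodule.span F (Set.range ![a, b]) = W := by
    apply Submodule.eq_of_le_of_finrank_eq hle
    rw [finrank_span_eq_card hli, hW, Fintype.card_fin]
  rw [← heq] at hx
  obtain ⟨c, hc⟩ := (Submodule.mem_span_range_iff_exists_fun F).1 hx
  rw [Fin.sum_univ_two] at hc
  have hc' : c 0 • a + c 1 • b = x := hc
  rw [← hc', polar_add_right, polar_smul_right, polar_smul_right, hba,
    polar_self_of_sing h.right, polar_add_right, polar_smul_right, polar_smul_right, h.pair,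
    polar_self_of_sing h.left]
  simp

/-- Overgroups of the stabiliser of a decomposition into hyperbolic planes. -/
structure HCtx (Q : QuadraticForm F V) (D : Fin t → Submodule F V) (p : Fin t → V →ₗ[F] V)
    (e f : Fin t → V) (M : Subgroup (V ≃ₗ[F] V)) : Prop where
  dec : Dec Q D p
  good : Good Q
  fin : ∀ i, Module.finrank F (D i) = 2
  he : ∀ i, e i ∈ D i
  hf : ∀ i, f i ∈ D i
  hyp : ∀ i, Hyp Q (e i) (f i)
  iso : ∀ i j, ∃ φ : D i ≃ₗ[F] D j, ∀ x, Q (φ x : V) = Q (x : V)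
  three : 3 ≤ t
  card : 7 ≤ Nat.card F
  le : stabFamily D ⊓ E Q ≤ M
  le_E : M ≤ E Q

namespace HCtx

variable [FiniteDimensional F V]

theorem le_O (c : HCtx Q D p e f M) : M ≤ O Q := c.le_E.trans E_le_O

theorem nd (c : HCtx Q D p e f M) (i : Fin t) : NdOn Q (D i) := c.dec.nondegOn c.good.nondeg i

theorem refl_mem (c : HCtx Q D p e f M) {i j : Fin t} {a b : V} (ha : a ∈ D i) (hb : b ∈ D j)
    (hQa : Q a ≠ 0) (hQb : Q b ≠ 0) (hab : Q a = Q b) : refl Q a hQa * refl Q b hQb ∈ M :=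
  c.le (c.dec.refl_mul_refl_mem c.good ha hb hQa hQb hab)

theorem tor_mem (c : HCtx Q D p e f M) {i : Fin t} {a b : V} (ha : a ∈ D i) (hb : b ∈ D i)
    (h : Hyp Q a b) {γ : F} (hγ : γ ≠ 0) : tor h hγ ∈ M :=
  c.le (Cfsg.Agent.H885.HypCore.tor_mem c.dec c.good ha hb h hγ)

theorem exists_third (c : HCtx Q D p e f M) (i j : Fin t) : ∃ l, l ≠ i ∧ l ≠ j := by
  classical
  have ht := c.three
  obtain ⟨l, -, hl⟩ := Finset.exists_mem_notMem_of_card_lt_card
    (s := ({i, j} : Finset (Fin t))) (t := Finset.univ) (by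
      rw [Finset.card_univ, Fintype.card_fin]
      exact lt_of_le_of_lt Finset.card_le_two (by omega))
  simp only [Finset.mem_insert, Finset.mem_singleton, not_or] at hl
  exact ⟨l, hl.1, hl.2⟩

theorem exists_norm (c : HCtx Q D p e f M) (j : Fin t) (v : F) : ∃ b ∈ D j, Q b = v := by
  refine ⟨(1 : F) • e j + v • f j, (D j).add_mem ((D j).smul_mem _ (c.he j))
    ((D j).smul_mem _ (c.hf j)), ?_⟩
  rw [Q_comb (c.hyp j), one_mul]

/-- `T_s(M)` contains `D j` if it contains a vector with nonzero `j`-component. -/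
theorem le_T_of_mem [Finite F] (c : HCtx Q D p e f M) {i j : Fin t} (hij : i ≠ j) {s x : V}
    (hs : s ∈ D i) (hQs : Q s = 0) (hx : x ∈ T M Q s hQs) (hxj : p j x ≠ 0) :
    D j ≤ T M Q s hQs := by
  have hMO := c.le_O
  have hinv : ∀ m ∈ M, m s = s → ∀ w ∈ T M Q s hQs, m w ∈ T M Q s hQs := by
    intro m hm hms w hw
    have h1 := T_conj hm (hMO hm) hw (by rw [hms]; exact hQs)
    simpa only [hms] using h1
  have hperp : ∀ y ∈ D j, polar Q y s = 0 := fun y hy => c.dec.orth j i hij.symm y hy s hs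
  obtain ⟨γ, hγ, hγ1, hγ2⟩ := exists_gamma (F := F) c.card
  have hK : ∀ w ∈ T M Q s hQs, tor (c.hyp j) hγ w ∈ T M Q s hQs := by
    intro w hw
    refine hinv _ (c.tor_mem (c.he j) (c.hf j) (c.hyp j) hγ) ?_ w hw
    exact tor_fix _ _ (hperp _ (c.he j)) (hperp _ (c.hf j))
  have hsplit := torus_split (c.hyp j) hγ hγ1 hγ2 hK hx
  -- exchange of `e j` and `f j`
  obtain ⟨l, hli, hlj⟩ := c.exists_third i j
  have hQ1 := Q_one (c.hyp j)
  have hQ1' := Q_one (c.hyp l)
  have hm := c.refl_mem ((D j).add_mem (c.he j) (c.hf j)) ((D l).add_mem (c.he l) (c.hf l))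
    (Q_one_ne (c.hyp j)) (Q_one_ne (c.hyp l)) (by rw [hQ1, hQ1'])
  set m := refl Q (e j + f j) (Q_one_ne (c.hyp j)) * refl Q (e l + f l) (Q_one_ne (c.hyp l))
    with hmdef
  have hfixl : ∀ y : V, (∀ z ∈ D l, polar Q z y = 0) →
      m y = refl Q (e j + f j) (Q_one_ne (c.hyp j)) y := by
    intro y hy
    show refl Q (e j + f j) (Q_one_ne (c.hyp j)) (refl Q (e l + f l) (Q_one_ne (c.hyp l)) y) = _
    congr 1
    rw [refl_apply, hy _ ((D l).add_mem (c.he l) (c.hf l))]
    simp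
  have hms : m s = s := by
    rw [hfixl s (fun z hz => c.dec.orth l i hli z hz s hs), refl_apply,
      hperp _ ((D j).add_mem (c.he j) (c.hf j))]
    simp
  have hfe : polar Q (f j) (e j) = 1 := by rw [polar_comm]; exact (c.hyp j).pair
  have hme : m (e j) = -(f j) := by
    rw [hfixl _ (fun z hz => c.dec.orth l j hlj z hz _ (c.he j)), refl_apply, hQ1, polar_add_left,
      polar_self_of_sing (c.hyp j).left, hfe]
    simp
  have hmf : m (f j) = -(e j) := by
    rw [hfixl _ (fun z hz => c.dec.orth l j hlj z hz _ (c.hf j)), refl_apply, hQ1, polar_add_left,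
      polar_self_of_sing (c.hyp j).right, (c.hyp j).pair]
    simp
  have heT : e j ∈ T M Q s hQs ∧ f j ∈ T M Q s hQs := by
    by_cases h1 : polar Q (f j) x = 0
    · have h2 : polar Q (e j) x ≠ 0 := by
        intro h2
        apply hxj
        rw [coord (c.fin j) (c.he j) (c.hf j) (c.hyp j) (c.dec.mem j x),
          ← c.dec.polar_right j x (c.hf j), ← c.dec.polar_right j x (c.he j), h1, h2]
        simp
      have h3 := hsplit.2 h2
      have h4 := hinv m hm hms _ h3
      rw [hmf] at h4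
      exact ⟨(Submodule.neg_mem_iff _).1 h4, h3⟩
    · have h3 := hsplit.1 h1
      have h4 := hinv m hm hms _ h3
      rw [hme] at h4
      exact ⟨h3, (Submodule.neg_mem_iff _).1 h4⟩
  intro y hy
  rw [coord (c.fin j) (c.he j) (c.hf j) (c.hyp j) hy]
  exact Submodule.add_mem _ (Submodule.smul_mem _ _ heT.1) (Submodule.smul_mem _ _ heT.2)

/-- **The criterion** for hyperbolic planes. -/
theorem E_le_of_mem_T [Finite F] (c : HCtx Q D p e f M) {i : Fin t} {s x : V} (hs : s ∈ D i)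
    (hs0 : s ≠ 0) (hQs : Q s = 0) (hx : x ∈ T M Q s hQs) (hxi : x ∉ D i) : E Q ≤ M := by
  have hMO := c.le_O
  obtain ⟨j, hji, hxj⟩ := c.dec.exists_ne hxi
  have hj : D j ≤ T M Q s hQs := c.le_T_of_mem hji.symm hs hQs hx hxj
  have hall : ∀ l, l ≠ i → D l ≤ T M Q s hQs := by
    intro l hli
    by_cases hjl : j = l
    · subst hjl
      exact hj
    · obtain ⟨φ, hφ⟩ := c.iso j l
      obtain ⟨τ, hτ, hτ1, hτ2⟩ := exists_swap c.dec c.good (k := 2) (by omega) c.fin hjl hφ
        (c.he l) (c.hf l) (c.hyp l)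
      have hτM := c.le hτ
      have hτs : τ s = s := hτ2 i hji.symm hli.symm s hs
      rw [← hτ1]
      rintro _ ⟨z, hz, rfl⟩
      have h1 := T_conj hτM (hMO hτM) (hj hz) (by rw [hτs]; exact hQs)
      show τ z ∈ T M Q s hQs
      simpa only [hτs] using h1
  obtain ⟨s', hs', hQs', hss'⟩ := exists_partner (c.nd i) hs hs0 hQs
  have hhyp : Hyp Q s s' := ⟨hQs, hQs', hss'⟩
  have hfull : Full M Q s := by
    refine full_of_T_eq (hx := hQs) fun w hw => ?_
    rw [← c.dec.sum w]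
    refine Submodule.sum_mem _ fun l _ => ?_
    by_cases hli : l = i
    · subst hli
      have h1 := coord (c.fin l) hs hs' hhyp (c.dec.mem l w)
      rw [← c.dec.polar_right l w hs, hw, zero_smul, add_zero] at h1
      rw [h1]
      exact Submodule.smul_mem _ _ (self_mem_T hQs)
    · exact hall l hli (c.dec.mem l w)
  have hQd : Q (s - s') = -1 := by
    rw [sub_eq_add_neg, Q_add, QuadraticMap.map_neg, polar_neg_right, hQs, hQs', hss']
    simp
  have hd : s - s' ∈ D i := (D i).sub_mem hs hs'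
  have hQd0 : Q (s - s') ≠ 0 := by rw [hQd]; exact neg_ne_zero.2 one_ne_zero
  obtain ⟨b, hb, hQb⟩ := c.exists_norm j (Q (s - s'))
  have hQb0 : Q b ≠ 0 := by rw [hQb]; exact hQd0
  have hm := c.refl_mem hd hb hQd0 hQb0 hQb.symm
  have e1 : (refl Q (s - s') hQd0 * refl Q b hQb0) s = s' := by
    show refl Q (s - s') hQd0 (refl Q b hQb0 s) = s'
    have e0 : refl Q b hQb0 s = s := by
      rw [refl_apply, c.dec.orth j i hji b hb s hs]
      simp
    rw [e0, refl_apply, hQd, polar_sub_left, polar_self_of_sing hQs, polar_comm Q s' s, hss']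
    have : ((-1 : F))⁻¹ * (0 - 1) = 1 := by
      rw [zero_sub]
      exact inv_mul_cancel₀ (neg_ne_zero.2 one_ne_zero)
    rw [this, one_smul]
    abel
  have hfull' : Full M Q s' := by
    rw [← e1]
    exact hfull.conj hm (hMO hm)
  exact E_le_of_full c.good hMO hfull hfull' (by rw [hss']; exact one_ne_zero)

end HCtx

end Cfsg.Agent.H885.HypCore
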