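import Cfsg.Agent.H885.HypCore
import Cfsg.Agent.H886.PlaneRigid

/-!
Rigid overgroups of the stabiliser of an orthogonal decomposition into at least seven hyperbolic planes,
`|F| ≥ 7`: they permute the planes or contain `E Q`.
-/

set_option autoImplicit false
set_option linter.unusedSectionVars false

namespace Cfsg.Agent.H885.HypRigid

open QuadraticMap Cfsg.Agent.LieClassical.OrthCore Cfsg.Agent.LieClassical.OrthTrans
  Cfsg.Agent.LieClassical.OrthFinite Cfsg.Agent.LieClassical.OrthSimple Cfsg.Agent.H883.Bridge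
  Cfsg.Agent.H885.RootT Cfsg.Agent.H885.Irr Cfsg.Agent.H885.C2Scalar Cfsg.Agent.H885.C2Conn
  Cfsg.Agent.H886.Decomp Cfsg.Agent.H885.C2Rigid Cfsg.Agent.H885.C2Trans
  Cfsg.Agent.H885.C2NonRigid Cfsg.Agent.H885.HypCore
open Cfsg.Agent.H886.Rigid (conj_refl_mul_refl)
open Cfsg.Agent.H886.PlaneRigid (exists_preimage)

variable {F V : Type*} [Field F] [AddCommGroup V] [Module F V] {Q : QuadraticForm F V} {t : ℕ}
  {D : Fin t → Submodule F V} {p : Fin t → V →ₗ[F] V} {M : Subgroup (V ≃ₗ[F] V)}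
  {e f : Fin t → V}

/-- Connectedness of hyperbolic planes, `q ≥ 7`. -/
theorem conn_hyp [Finite F] (hF : 7 ≤ Nat.card F) {W : Submodule F V}
    (hW : Module.finrank F W = 2) {a b : V} (ha : a ∈ W) (hb : b ∈ W) (h : Hyp Q a b) :
    Conn Q W := by
  intro y hy hQy K hK
  obtain ⟨γ, hγ, hγ1, hγ2⟩ := exists_gamma (F := F) hF
  have hba : polar Q b a = 1 := by rw [polar_comm]; exact h.pair
  have hyc := coord hW ha hb h hy
  set α := polar Q b y with hα
  set β := polar Q a y with hβ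
  have hQy' : Q y = α * β := by
    rw [hyc, Q_comb h]
  have hαβ : α * β ≠ 0 := by rw [← hQy']; exact hQy
  have hα0 : α ≠ 0 := left_ne_zero_of_mul hαβ
  have hβ0 : β ≠ 0 := right_ne_zero_of_mul hαβ
  have hyK : y ∈ K := hK y Rch.base
  have hzK : (γ * α) • a + (γ⁻¹ * β) • b ∈ K := by
    refine hK _ (Rch.step Rch.base (W.add_mem (W.smul_mem _ ha) (W.smul_mem _ hb)) ?_ ?_)
    · rw [Q_comb h, hQy']
      field_simp
    · rw [polar_add_right, polar_smul_right, polar_smul_right, polar_comm Q y a, polar_comm Q y b,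
        ← hα, ← hβ, smul_eq_mul, smul_eq_mul]
      intro h0
      apply hγ2
      have h1 : γ * γ⁻¹ = 1 := mul_inv_cancel₀ hγ
      have h2 : (γ ^ 2 + 1) * (α * β) = 0 := by
        linear_combination γ * h0 - α * β * h1
      have h3 := (mul_eq_zero.1 h2).resolve_right hαβ
      linear_combination h3
  have hbK : b ∈ K := by
    have h1 := K.sub_mem hyK (K.smul_mem γ⁻¹ hzK)
    have h2 : y - γ⁻¹ • ((γ * α) • a + (γ⁻¹ * β) • b) = ((1 - (γ⁻¹) ^ 2) * β) • b := by
      rw [hyc]
      match_scalars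
      · field_simp
        ring
      · ring
    rw [h2] at h1
    refine (K.smul_mem_iff (mul_ne_zero ?_ hβ0)).1 h1
    intro h0
    apply hγ1
    have h6 : γ * γ⁻¹ = 1 := mul_inv_cancel₀ hγ
    have h7 : γ ^ 2 * (γ⁻¹) ^ 2 = 1 := by rw [← mul_pow, h6, one_pow]
    linear_combination h7 + γ ^ 2 * h0
  have haK : a ∈ K := by
    have h1 := K.sub_mem hyK (K.smul_mem γ hzK)
    have h2 : y - γ • ((γ * α) • a + (γ⁻¹ * β) • b) = ((1 - γ ^ 2) * α) • a := by
      rw [hyc]
      match_scalars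
      · ring
      · field_simp
        ring
    rw [h2] at h1
    refine (K.smul_mem_iff (mul_ne_zero ?_ hα0)).1 h1
    intro h0
    apply hγ1
    linear_combination -h0
  intro x hx
  rw [coord hW ha hb h hx]
  exact K.add_mem (K.smul_mem _ haK) (K.smul_mem _ hbK)

/-- Conjugates of torus elements. -/
theorem tor_conj {m : V ≃ₗ[F] V} (hm : m ∈ O Q) {a b : V} (h : Hyp Q a b)
    (h' : Hyp Q (m a) (m b)) {γ : F} (hγ : γ ≠ 0) : m * tor h hγ * m⁻¹ = tor h' hγ := by
  ext x
  show m (tor h hγ (m.symm x)) = _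
  rw [tor_apply, tor_apply, map_add, map_add, map_smul, map_smul, LinearEquiv.apply_symm_apply,
    ← polar_map hm b, ← polar_map hm a, LinearEquiv.apply_symm_apply]

theorem hyp_map {m : V ≃ₗ[F] V} (hm : m ∈ O Q) {a b : V} (h : Hyp Q a b) :
    Hyp Q (m a) (m b) :=
  ⟨by rw [mem_O.1 hm]; exact h.left, by rw [mem_O.1 hm]; exact h.right,
    by rw [polar_map hm]; exact h.pair⟩

/-- An isometry with singular displacements in a nondegenerate plane is trivial on it. -/
theorem fix_of_sing_disp {W : Submodule F V} (hW : NdOn Q W) (hfin : Module.finrank F W = 2)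
    {u : V ≃ₗ[F] V} (hu : u ∈ O Q) (h1 : ∀ x ∈ W, x - u x ∈ W) (h2 : ∀ x ∈ W, Q (x - u x) = 0)
    {x : V} (hx : x ∈ W) : u x = x := by
  by_contra hne
  have hs0 : x - u x ≠ 0 := fun h => hne (sub_eq_zero.1 h).symm
  obtain ⟨s', hs', hQs', hss'⟩ := exists_partner hW (h1 x hx) hs0 (h2 x hx)
  have hhyp : Hyp Q (x - u x) s' := ⟨h2 x hx, hQs', hss'⟩
  have hpol : ∀ y ∈ W, ∀ z ∈ W, polar Q (y - u y) (z - u z) = 0 := by
    intro y hy z hz
    have h3 := h2 _ (W.add_mem hy hz)
    have e1 : y + z - u (y + z) = (y - u y) + (z - u z) := by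
      rw [map_add]; abel
    rw [e1, Q_add, h2 y hy, h2 z hz, zero_add, zero_add] at h3
    exact h3
  have hself : polar Q s' (s' - u s') = 0 := by
    have h3 : Q (s' - (s' - u s')) = Q s' := by
      rw [sub_sub_cancel, mem_O.1 hu]
    rw [sub_eq_add_neg, Q_add, QuadraticMap.map_neg, h2 s' hs', polar_neg_right] at h3
    linear_combination -h3
  have hd0 : s' - u s' = 0 := by
    rw [coord hfin (h1 x hx) hs' hhyp (h1 s' hs'), hself, hpol x hx s' hs']
    simp
  have h4 : polar Q (u x) (u s') = polar Q x s' := polar_map hu x s'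
  have h5 : u s' = s' := (sub_eq_zero.1 hd0).symm
  rw [h5] at h4
  rw [polar_sub_left, h4, sub_self] at hss'
  exact zero_ne_one hss'

namespace HCtx'

variable [FiniteDimensional F V]

theorem conn [Finite F] (c : HCtx Q D p e f M) (i : Fin t) : Conn Q (D i) :=
  conn_hyp c.card (c.fin i) (c.he i) (c.hf i) (c.hyp i)

/-- **The principle of rigid overgroups.** -/
theorem mem_stabFamily [Finite F] (c : HCtx Q D p e f M) (hR : Rigid Q D M) {i j : Fin t} {a : V}
    (ha : a ∈ D i) (hQa : Q a ≠ 0) {m : V ≃ₗ[F] V} (hm : m ∈ M) (hma : m a ∈ D j) :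
    m ∈ stabFamily D := by
  refine c.dec.mem_stabFamily_of_forall (k := 2) (by omega) c.fin fun l => ?_
  obtain ⟨b₀, hb₀, hQb₀⟩ := c.exists_norm l (Q a)
  have hmO := c.le_O hm
  have key : ∀ b ∈ D l, Q b = Q a → ∃ j', m b ∈ D j' := by
    intro b hbl hQb
    have hQb0 : Q b ≠ 0 := by rw [hQb]; exact hQa
    have h1 := c.refl_mem ha hbl hQa hQb0 hQb.symm
    have ha' : Q (m a) ≠ 0 := by rw [mem_O.1 hmO]; exact hQa
    have hb' : Q (m b) ≠ 0 := by rw [mem_O.1 hmO]; exact hQb0
    have h2 := M.mul_mem (M.mul_mem hm h1) (M.inv_mem hm)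
    rw [conj_refl_mul_refl hmO hQa hQb0 ha' hb'] at h2
    exact hR j _ hma ha' _ hb' (by rw [mem_O.1 hmO, mem_O.1 hmO, hQb]) h2
  obtain ⟨j₀, hj₀⟩ := key b₀ hb₀ hQb₀
  refine ⟨j₀, fun x hx => ?_⟩
  refine conn c l b₀ hb₀ (by rw [hQb₀]; exact hQa) ((D j₀).comap (m : V →ₗ[F] V)) ?_ hx
  intro y hy
  induction hy with
  | base => exact hj₀
  | @step c' d hc hd hQd hcd ih =>
    obtain ⟨j', hj'⟩ := key d hd (by rw [hQd, hQb₀])
    by_cases he : j₀ = j'
    · subst he
      exact hj'
    · exfalso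
      rw [← polar_map hmO] at hcd
      exact hcd (c.dec.orth j₀ j' he _ ih _ hj')

theorem mem_stabFamily_conj [Finite F] (c : HCtx Q D p e f M) (hR : Rigid Q D M) {g : V ≃ₗ[F] V}
    (hg : g ∈ M) {i j : Fin t} {x : V} (hx : x ∈ (D i).map (g : V →ₗ[F] V)) (hQx : Q x ≠ 0)
    {m : V ≃ₗ[F] V} (hm : m ∈ M) (hmx : m x ∈ (D j).map (g : V →ₗ[F] V)) :
    m ∈ stabFamily (fun i => (D i).map (g : V →ₗ[F] V)) := by
  obtain ⟨a, ha, rfl⟩ := hx
  obtain ⟨b, hb, hbm⟩ := hmx
  have hQx' : Q (g a) ≠ 0 := hQx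
  rw [mem_O.1 (c.le_O hg) a] at hQx'
  refine Cfsg.Agent.H886.Decomp.mem_stabFamily_map ?_
  refine mem_stabFamily c hR (j := j) ha hQx' (M.mul_mem (M.mul_mem (M.inv_mem hg) hm) hg) ?_
  have e : (g⁻¹ * m * g) a = b := by
    show g.symm (m (g a)) = b
    rw [LinearEquiv.symm_apply_eq]
    exact hbm.symm
  rw [e]
  exact hb

theorem sing_of_mem_of_mem [Finite F] (c : HCtx Q D p e f M) (hR : Rigid Q D M) {g : V ≃ₗ[F] V}
    (hg : g ∈ M) (hgD : g ∉ stabFamily D) {i j : Fin t} {z : V} (hz : z ∈ D j)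
    (hgz : g z ∈ D i) : Q (g z) = 0 := by
  by_contra hQ
  rw [mem_O.1 (c.le_O hg)] at hQ
  exact hgD (mem_stabFamily c hR hz hQ hg hgz)

/-- **Full support** of the nonsingular vectors of the members of `g D`. -/
theorem full_support [Finite F] (c : HCtx Q D p e f M) (hR : Rigid Q D M) {g : V ≃ₗ[F] V}
    (hg : g ∈ M) (hgD : g ∉ stabFamily D) {l₀ : Fin t} {v : V} (hv : v ∈ D l₀) (hQv : Q v ≠ 0)
    (i : Fin t) : p i (g v) ≠ 0 := by
  intro hi
  have hgO := c.le_O hg
  obtain ⟨γ, hγ, hγ1, hγ2⟩ := exists_gamma (F := F) c.card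
  have huM := c.tor_mem (c.he i) (c.hf i) (c.hyp i) hγ
  have huO := c.le_O huM
  have hui := tor_left (c.hyp i) hγ
  have hdisp : ∀ x, x - tor (c.hyp i) hγ x ∈ D i := by
    intro x
    rw [tor_apply, add_assoc, sub_add_cancel_left]
    exact (D i).neg_mem ((D i).add_mem ((D i).smul_mem _ (c.he i)) ((D i).smul_mem _ (c.hf i)))
  have hfixv : tor (c.hyp i) hγ (g v) = g v := by
    refine tor_fix _ _ ?_ ?_
    · rw [c.dec.polar_right i _ (c.he i), hi, polar_zero_right]
    · rw [c.dec.polar_right i _ (c.hf i), hi, polar_zero_right]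
  set u := tor (c.hyp i) hγ with hu
  have hgv : g v ∈ (D l₀).map (g : V →ₗ[F] V) := Submodule.mem_map_of_mem hv
  have hQgv : Q (g v) ≠ 0 := by rw [mem_O.1 hgO]; exact hQv
  have hstab := mem_stabFamily_conj c hR hg hgv hQgv huM (j := l₀) (by rw [hfixv]; exact hgv)
  obtain ⟨σ, hσ⟩ := hstab
  have hσ' : ∀ l z, z ∈ D l → ∃ z' ∈ D (σ l), u (g z) = g z' := by
    intro l z hz
    have h1 : u (g z) ∈ (D (σ l)).map (g : V →ₗ[F] V) := by
      have h2 := hσ l
      simp only at h2
      rw [← h2]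
      exact Submodule.mem_map_of_mem (Submodule.mem_map_of_mem hz)
    obtain ⟨z', hz', h2⟩ := h1
    exact ⟨z', hz', h2.symm⟩
  have hei0 : e i ≠ 0 := by
    intro h0
    have := (c.hyp i).pair
    rw [h0, polar_zero_left] at this
    exact zero_ne_one this
  have h' := c.dec.map hgO
  by_cases hfix : ∀ l, σ l = l
  · -- `u` is trivial on all members of `g D`
    have hall : ∀ l z, z ∈ D l → u (g z) = g z := by
      intro l z hz
      have hnd : NdOn Q ((D l).map (g : V →ₗ[F] V)) := h'.nondegOn c.good.nondeg l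
      refine fix_of_sing_disp hnd ?_ huO ?_ ?_ (Submodule.mem_map_of_mem hz)
      · rw [← c.fin l]
        exact LinearEquiv.finrank_map_eq g (D l)
      · rintro _ ⟨x, hx, rfl⟩
        obtain ⟨x', hx', h1⟩ := hσ' l x hx
        rw [hfix l] at hx'
        show g x - u (g x) ∈ _
        rw [h1, ← map_sub]
        exact Submodule.mem_map_of_mem ((D l).sub_mem hx hx')
      · rintro _ ⟨x, hx, rfl⟩
        obtain ⟨x', hx', h1⟩ := hσ' l x hx
        rw [hfix l] at hx'
        have h2 := hdisp (g x)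
        show Q (g x - u (g x)) = 0
        rw [h1, ← map_sub] at h2 ⊢
        exact sing_of_mem_of_mem c hR hg hgD ((D l).sub_mem hx hx') h2
    have hone : ∀ y, u y = y := by
      intro y
      obtain ⟨x, rfl⟩ := g.surjective y
      have h1 : g x = ∑ l, g (p l x) := by rw [← map_sum, c.dec.sum]
      rw [h1, map_sum]
      exact Finset.sum_congr rfl fun l _ => hall l _ (c.dec.mem l x)
    have h1 := hone (e i)
    rw [hui] at h1
    have h2 : (γ ^ 2 - 1) • e i = 0 := by rw [sub_smul, one_smul, h1, sub_self]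
    rcases smul_eq_zero.1 h2 with h | h
    · exact hγ1 (by linear_combination h)
    · exact hei0 h
  · push Not at hfix
    obtain ⟨l, hl⟩ := hfix
    have hinj : ∀ z ∈ D l, g z - u (g z) = 0 → z = 0 := by
      intro z hz h0
      obtain ⟨z', hz', h1⟩ := hσ' l z hz
      rw [h1, ← map_sub] at h0
      have h2 : z - z' = 0 := g.map_eq_zero_iff.1 h0
      refine c.dec.eq_zero_of_mem hl.symm hz ?_
      rw [sub_eq_zero.1 h2]
      exact hz'
    obtain ⟨y, hy, hy'⟩ := exists_preimage (W₁ := D l) (W₂ := D i) (k := 2) (by omega)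
      (c.fin l) (c.fin i) ((g : V →ₗ[F] V) - (u : V →ₗ[F] V) ∘ₗ (g : V →ₗ[F] V))
      (fun z _ => hdisp (g z)) (fun z hz h0 => hinj z hz h0) (c.he i)
    have hye : g y - u (g y) = e i := hy'
    have huei : u (e i) ∈ D i := by rw [hui]; exact (D i).smul_mem _ (c.he i)
    obtain ⟨y₁, hy₁, hy₁'⟩ := exists_preimage (W₁ := D l) (W₂ := D i) (k := 2) (by omega)
      (c.fin l) (c.fin i) ((g : V →ₗ[F] V) - (u : V →ₗ[F] V) ∘ₗ (g : V →ₗ[F] V))
      (fun z _ => hdisp (g z)) (fun z hz h0 => hinj z hz h0) huei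
    have hy₁e : g y₁ - u (g y₁) = u (e i) := hy₁'
    obtain ⟨z, hz, hz'⟩ := hσ' l y hy
    obtain ⟨z₁, hz₁, hz₁'⟩ := hσ' l y₁ hy₁
    obtain ⟨w, hw, hw'⟩ := hσ' (σ l) z hz
    rw [hz₁', ← hye, map_sub, hz', hw', ← map_sub, ← map_sub] at hy₁e
    have hrel : y₁ - z₁ = z - w := g.injective hy₁e
    have hσσ : σ l ≠ σ (σ l) := fun h1 => hl (σ.injective h1).symm
    -- the `σ l`-component
    have d1 := congrArg (p (σ l)) hrel
    rw [map_sub, map_sub, c.dec.other (σ l) l hl y₁ hy₁, c.dec.self _ z₁ hz₁, c.dec.self _ z hz,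
      c.dec.other (σ l) (σ (σ l)) hσσ w hw, sub_zero, zero_sub] at d1
    -- `z = - z₁`, hence `y = - y₁`
    have d2 : y = -y₁ := by
      have h1 : u (g y) = u (g (-y₁)) := by
        rw [map_neg, map_neg, hz', hz₁', ← map_neg, d1]
      exact g.injective (u.injective h1)
    -- the `l`-component
    have d3 := congrArg (p l) hrel
    rw [map_sub, map_sub, c.dec.self l y₁ hy₁, c.dec.other l (σ l) hl.symm z₁ hz₁,
      c.dec.other l (σ l) hl.symm z hz, sub_zero, zero_sub] at d3
    have hy0 : y ≠ 0 := by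
      rintro rfl
      rw [map_zero, map_zero, sub_zero] at hye
      exact hei0 hye.symm
    have hσl : σ (σ l) = l := by
      by_contra hne
      rw [c.dec.other l (σ (σ l)) (Ne.symm hne) w hw, neg_zero] at d3
      rw [d3, neg_zero] at d2
      exact hy0 d2
    rw [hσl] at hw
    rw [c.dec.self l w hw] at d3
    have d4 : w = y := by rw [d2, d3, neg_neg]
    have h1 : u (e i) = -(e i) := by
      rw [← hye, map_sub, hz', hw', d4]
      abel
    rw [hui] at h1
    have h2 : (γ ^ 2 + 1) • e i = 0 := by rw [add_smul, one_smul, h1]; abel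
    rcases smul_eq_zero.1 h2 with h | h
    · exact hγ2 (by linear_combination h)
    · exact hei0 h

/-- A product of two torus elements is a Siegel transformation. -/
theorem tor_eq {a b d : V} (h : Hyp Q a b) (h' : Hyp Q a (b + d)) {δ : F} (hδ : δ ≠ 0)
    (had : polar Q a ((((δ⁻¹) ^ 2) - 1) • d) = 0) :
    tor h' hδ = tor h hδ * siegel Q a ((((δ⁻¹) ^ 2) - 1) • d) h.left had := by
  have hba : polar Q b a = 1 := by rw [polar_comm]; exact h.pair
  have had' : polar Q a d = 0 := by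
    have h1 := h'.pair
    rw [polar_add_right, h.pair] at h1
    linear_combination h1
  have hbd : polar Q b d = - Q d := by
    have h1 := h'.right
    rw [Q_add, h.right] at h1
    linear_combination h1
  ext x
  show tor h' hδ x = tor h hδ (siegel Q a ((((δ⁻¹) ^ 2) - 1) • d) h.left had x)
  rw [tor_apply, siegel_apply, tor_apply, polar_sub_right, polar_sub_right, polar_add_right,
    polar_sub_right, polar_sub_right, polar_add_right, polar_add_left]
  simp only [polar_smul_right, polar_smul_left, QuadraticMap.map_smul, polar_self_of_sing h.left,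
    had', hbd, hba, smul_eq_mul, mul_zero, sub_zero, add_zero, mul_one]
  match_scalars
  · ring
  · field_simp
    ring
  · ring
  · ring

/-- Additive closure of the `δ² - 1`. -/
theorem closure_sq [Finite F] (hF : 7 ≤ Nat.card F) {A : F → Prop}
    (h1 : ∀ δ : F, δ ≠ 0 → A (δ ^ 2 - 1)) (hadd : ∀ x y, A x → A y → A (x + y))
    (hneg : ∀ x, A x → A (-x)) (x : F) : A x := by
  classical
  have key : ∀ y : F, y ≠ 1 → y ≠ -1 → A y := by
    intro y hy1 hy2
    by_cases h2 : (2 : F) = 0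
    · have : Fintype F := Fintype.ofFinite F
      have : CharP F 2 := CharTwo.of_one_ne_zero_of_two_eq_zero one_ne_zero h2
      obtain ⟨r, hr⟩ := FiniteField.isSquare_of_char_two (ringChar.eq F 2) (y + 1)
      have hr0 : r ≠ 0 := by
        rintro rfl
        rw [mul_zero] at hr
        exact hy2 (by linear_combination hr)
      have h3 := h1 r hr0
      have h4 : r ^ 2 - 1 = y := by linear_combination -hr
      rwa [h4] at h3
    · have h3 := h1 ((y + 1) / 2) (div_ne_zero (fun h => hy2 (by linear_combination h)) h2)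
      have h4 := h1 ((y - 1) / 2) (div_ne_zero (fun h => hy1 (by linear_combination h)) h2)
      have h5 := hadd _ _ h3 (hneg _ h4)
      have h6 : ((y + 1) / 2) ^ 2 - 1 + -(((y - 1) / 2) ^ 2 - 1) = y := by
        field_simp
        ring
      rwa [h6] at h5
  obtain ⟨y, hy⟩ := exists_avoid ({1, -1, x - 1, x + 1} : Finset F)
    (lt_of_le_of_lt Finset.card_le_four (by omega))
  simp only [Finset.mem_insert, Finset.mem_singleton, not_or] at hy
  obtain ⟨hy1, hy2, hy3, hy4⟩ := hy
  have h3 := hadd _ _ (key y hy1 hy2) (key (x - y) (fun h => hy3 (by linear_combination -h))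
    (fun h => hy4 (by linear_combination -h)))
  rwa [add_sub_cancel] at h3

/-- **A non-injective projection**: `E Q ≤ M`. -/
theorem E_le_of_proj_eq_zero [Finite F] (c : HCtx Q D p e f M) (hR : Rigid Q D M)
    {g : V ≃ₗ[F] V} (hg : g ∈ M) (hgD : g ∉ stabFamily D) {l₀ i : Fin t} {z : V}
    (hz : z ∈ D l₀) (hz0 : z ≠ 0) (hpz : p i (g z) = 0) : E Q ≤ M := by
  have hMO := c.le_O
  have hgO := hMO hg
  have hQz : Q z = 0 := by
    by_contra h
    exact full_support c hR hg hgD hz h i hpz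
  obtain ⟨z', hz', hQz', hzz'⟩ := exists_partner (c.nd l₀) hz hz0 hQz
  have hhyp : Hyp Q z z' := ⟨hQz, hQz', hzz'⟩
  have hEF : Hyp Q (g z) (g z') := hyp_map hgO hhyp
  have hpz' : p i (g z') ≠ 0 := by
    have h1 := full_support c hR hg hgD ((D l₀).add_mem hz hz') (Q_one_ne hhyp) i
    rwa [map_add, map_add, hpz, zero_add] at h1
  obtain ⟨γ, hγ, hγ1, hγ2⟩ := exists_gamma (F := F) c.card
  have huM := c.tor_mem (c.he i) (c.hf i) (c.hyp i) hγ
  have huO := hMO huM
  have hperp : ∀ y ∈ D i, polar Q y (g z) = 0 := by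
    intro y hy
    rw [c.dec.polar_right i _ hy, hpz, polar_zero_right]
  have huE : tor (c.hyp i) hγ (g z) = g z := tor_fix _ _ (hperp _ (c.he i)) (hperp _ (c.hf i))
  set u := tor (c.hyp i) hγ with hu
  -- the displacement of `g z'`
  obtain ⟨d, hd⟩ : ∃ d, d = u (g z') - g z' := ⟨_, rfl⟩
  have hd' : d = ((γ ^ 2 - 1) * polar Q (f i) (g z')) • e i +
      (((γ⁻¹) ^ 2 - 1) * polar Q (e i) (g z')) • f i := by
    rw [hd, hu, tor_apply, add_assoc, add_sub_cancel_left]
  have huF : u (g z') = g z' + d := by rw [hd]; abel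
  have hEF' : Hyp Q (g z) (g z' + d) := by
    have h1 := hyp_map huO hEF
    rwa [huE, huF] at h1
  have had : polar Q (g z) d = 0 := by
    have h1 := hEF'.pair
    rw [polar_add_right, hEF.pair] at h1
    linear_combination h1
  have hT : ∀ δ : F, δ ≠ 0 → SM M Q (g z) (((δ ^ 2) - 1) • d) := by
    intro δ hδ
    have hδ' : δ⁻¹ ≠ 0 := inv_ne_zero hδ
    have had' : polar Q (g z) (((((δ⁻¹)⁻¹) ^ 2) - 1) • d) = 0 := by
      rw [polar_smul_right, had, smul_zero]
    have h1 : tor hEF hδ' ∈ M := by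
      rw [← tor_conj hgO hhyp hEF hδ']
      exact M.mul_mem (M.mul_mem hg (c.tor_mem hz hz' hhyp hδ')) (M.inv_mem hg)
    have h2 : tor hEF' hδ' ∈ M := by
      have h3 := M.mul_mem (M.mul_mem huM h1) (M.inv_mem huM)
      have h4 : Hyp Q (u (g z)) (u (g z')) := hyp_map huO hEF
      rw [tor_conj huO hEF h4 hδ'] at h3
      have e1 : tor h4 hδ' = tor hEF' hδ' := by
        ext x
        rw [tor_apply h4, tor_apply hEF', huE, huF]
      rwa [e1] at h3
    rw [tor_eq hEF hEF' hδ' had'] at h2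
    have h3 := M.mul_mem (M.inv_mem h1) h2
    rw [inv_mul_cancel_left] at h3
    have h4 : SM M Q (g z) (((((δ⁻¹)⁻¹) ^ 2) - 1) • d) := ⟨hEF.left, had', h3⟩
    rwa [inv_inv] at h4
  have hdT : d ∈ T M Q (g z) hEF.left := by
    intro x
    refine closure_sq (A := fun x => SM M Q (g z) (x • d)) c.card hT ?_ ?_ x
    · intro x y hx hy
      show SM M Q (g z) ((x + y) • d)
      rw [add_smul]
      exact hx.add hy
    · intro x hx
      show SM M Q (g z) ((-x) • d)
      rw [neg_smul]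
      exact hx.neg
  have hK : ∀ w ∈ T M Q (g z) hEF.left, u w ∈ T M Q (g z) hEF.left := by
    intro w hw
    have h1 := T_conj huM huO hw (by rw [huE]; exact hEF.left)
    simpa only [huE] using h1
  have hsplit := torus_split (c.hyp i) hγ hγ1 hγ2 hK hdT
  have hgz0 : g z ≠ 0 := fun h => hz0 (g.map_eq_zero_iff.1 h)
  have hgzi : g z ∉ D i := by
    intro h
    rw [c.dec.self i _ h] at hpz
    exact hgz0 hpz
  have hfe : polar Q (f i) (e i) = 1 := by rw [polar_comm]; exact (c.hyp i).pair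
  have hγ3 : (γ⁻¹) ^ 2 - 1 ≠ 0 := by
    intro h0
    apply hγ1
    have h6 : γ * γ⁻¹ = 1 := mul_inv_cancel₀ hγ
    have h7 : γ ^ 2 * (γ⁻¹) ^ 2 = 1 := by rw [← mul_pow, h6, one_pow]
    linear_combination h7 - γ ^ 2 * h0
  have hγ4 : γ ^ 2 - 1 ≠ 0 := fun h => hγ1 (by linear_combination h)
  have hfd : polar Q (f i) d = (γ ^ 2 - 1) * polar Q (f i) (g z') := by
    rw [hd', polar_add_right, polar_smul_right, polar_smul_right, hfe,
      polar_self_of_sing (c.hyp i).right]
    simp
  have hed : polar Q (e i) d = ((γ⁻¹) ^ 2 - 1) * polar Q (e i) (g z') := by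
    rw [hd', polar_add_right, polar_smul_right, polar_smul_right, (c.hyp i).pair,
      polar_self_of_sing (c.hyp i).left]
    simp
  have hfin : ∀ s ∈ D i, s ≠ 0 → Q s = 0 → s ∈ T M Q (g z) hEF.left → E Q ≤ M := by
    intro s hs hs0 hQs hsT
    exact c.E_le_of_mem_T hs hs0 hQs (T_symm hsT hQs) hgzi
  have hei0 : e i ≠ 0 := by
    intro h0
    have := (c.hyp i).pair
    rw [h0, polar_zero_left] at this
    exact zero_ne_one this
  have hfi0 : f i ≠ 0 := by
    intro h0
    have := (c.hyp i).pair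
    rw [h0, polar_zero_right] at this
    exact zero_ne_one this
  by_cases h1 : polar Q (f i) (g z') = 0
  · have h2 : polar Q (e i) (g z') ≠ 0 := by
      intro h2
      apply hpz'
      rw [coord (c.fin i) (c.he i) (c.hf i) (c.hyp i) (c.dec.mem i (g z')),
        ← c.dec.polar_right i (g z') (c.hf i), ← c.dec.polar_right i (g z') (c.he i), h1, h2]
      simp
    exact hfin _ (c.hf i) hfi0 (c.hyp i).right (hsplit.2 (by rw [hed]; exact mul_ne_zero hγ3 h2))
  · exact hfin _ (c.he i) hei0 (c.hyp i).left (hsplit.1 (by rw [hfd]; exact mul_ne_zero hγ4 h1))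

/-- No two nonsingular components of the same class. -/
theorem false_of_two [Finite F] (c : HCtx Q D p e f M) (hR : Rigid Q D M) {g : V ≃ₗ[F] V}
    (hg : g ∈ M)
    (hinj : ∀ l₀ i, ∀ z ∈ D l₀, p i (g z) = 0 → z = 0) {l₀ i j : Fin t} (hij : i ≠ j) {v : V}
    (hv : v ∈ D l₀) (hQv : Q v ≠ 0) (hQi : Q (p i (g v)) ≠ 0) {m : F} (hm : m ≠ 0)
    (hmij : m ^ 2 * Q (p i (g v)) = Q (p j (g v))) : False := by
  have hMO := c.le_O
  have hgO := hMO hg
  obtain ⟨l, hli, hlj⟩ := c.exists_third i j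
  -- the vectors orthogonal to the components
  have hex : ∀ r : Fin t, ∃ a ∈ D r, polar Q a (g v) = 0 ∧ Q a = -(Q (p r (g v))) := by
    intro r
    have hcr := coord (c.fin r) (c.he r) (c.hf r) (c.hyp r) (c.dec.mem r (g v))
    rw [← c.dec.polar_right r (g v) (c.hf r), ← c.dec.polar_right r (g v) (c.he r)] at hcr
    refine ⟨polar Q (f r) (g v) • e r + (-(polar Q (e r) (g v))) • f r,
      (D r).add_mem ((D r).smul_mem _ (c.he r)) ((D r).smul_mem _ (c.hf r)), ?_, ?_⟩
    · rw [polar_add_left, polar_smul_left, polar_smul_left]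
      simp only [smul_eq_mul]
      ring
    · rw [hcr, Q_comb (c.hyp r), Q_comb (c.hyp r)]
      ring
  obtain ⟨a, ha, hav, hQa⟩ := hex i
  obtain ⟨b, hb, hbv, hQb⟩ := hex j
  have hma : m • a ∈ D i := (D i).smul_mem _ ha
  have hmav : polar Q (m • a) (g v) = 0 := by rw [polar_smul_left, hav, smul_zero]
  have hQma : Q (m • a) = Q b := by
    rw [QuadraticMap.map_smul, hQa, hQb, ← hmij, smul_eq_mul]
    ring
  have hQb0 : Q b ≠ 0 := by
    rw [hQb, ← hmij]
    exact neg_ne_zero.2 (mul_ne_zero (pow_ne_zero 2 hm) hQi)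
  have hQma0 : Q (m • a) ≠ 0 := by rw [hQma]; exact hQb0
  have huM := c.refl_mem hma hb hQma0 hQb0 hQma
  set u := refl Q (m • a) hQma0 * refl Q b hQb0 with hu
  have hu_apply : ∀ x, u x = refl Q (m • a) hQma0 (refl Q b hQb0 x) := fun x => rfl
  have huv : u (g v) = g v := by
    rw [hu_apply, refl_apply hQb0, hbv, mul_zero, zero_smul, sub_zero, refl_apply, hmav, mul_zero,
      zero_smul, sub_zero]
  have hgv : g v ∈ (D l₀).map (g : V →ₗ[F] V) := Submodule.mem_map_of_mem hv
  have hQgv : Q (g v) ≠ 0 := by rw [mem_O.1 hgO]; exact hQv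
  have hstab := mem_stabFamily_conj c hR hg hgv hQgv huM (j := l₀) (by rw [huv]; exact hgv)
  obtain ⟨σ, hσ⟩ := hstab
  have hσ' : ∀ l z, z ∈ D l → ∃ z' ∈ D (σ l), u (g z) = g z' := by
    intro l z hz
    have h1 : u (g z) ∈ (D (σ l)).map (g : V →ₗ[F] V) := by
      have h2 := hσ l
      simp only at h2
      rw [← h2]
      exact Submodule.mem_map_of_mem (Submodule.mem_map_of_mem hz)
    obtain ⟨z', hz', h2⟩ := h1
    exact ⟨z', hz', h2.symm⟩
  have hσ₀ : σ l₀ = l₀ := by
    by_contra hne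
    obtain ⟨z', hz', h1⟩ := hσ' l₀ v hv
    rw [huv] at h1
    have h3 : v = z' := g.injective h1
    rw [← h3] at hz'
    exact ne_zero_of_Q hQv (c.dec.eq_zero_of_mem hne hz' hv)
  have hdisp : ∀ x, x - u x = ((Q b)⁻¹ * polar Q b x) • b +
      ((Q (m • a))⁻¹ * polar Q (m • a) x) • (m • a) := by
    intro x
    rw [hu_apply, refl_apply hQb0, refl_apply hQma0, polar_sub_right, polar_smul_right,
      c.dec.orth i j hij _ hma _ hb, smul_zero, sub_zero]
    abel
  have hid : ∀ y ∈ D l₀, u (g y) = g y := by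
    intro y hy
    obtain ⟨z, hz, hyz⟩ := hσ' l₀ y hy
    rw [hσ₀] at hz
    have h1 : p l (g (y - z)) = 0 := by
      rw [map_sub, ← hyz, hdisp, map_add, map_smul, map_smul, c.dec.other l j hlj b hb,
        c.dec.other l i hli _ hma]
      simp
    have h2 := hinj l₀ l _ ((D l₀).sub_mem hy hz) h1
    rw [hyz, sub_eq_zero.1 h2]
  have hma0 : m • a ≠ 0 := ne_zero_of_Q hQma0
  have hperp : ∀ y ∈ D l₀, polar Q (m • a) (g y) = 0 := by
    intro y hy
    have h1 := hdisp (g y)
    rw [hid y hy, sub_self] at h1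
    have h2 := congrArg (p i) h1
    rw [map_zero, map_add, map_smul, map_smul, c.dec.other i j hij b hb, smul_zero, zero_add,
      c.dec.self i _ hma] at h2
    rcases smul_eq_zero.1 h2.symm with h | h
    · rcases mul_eq_zero.1 h with h | h
      · exact absurd (inv_eq_zero.1 h) hQma0
      · exact h
    · exact absurd h hma0
  apply hma0
  refine c.nd i _ hma fun y hy => ?_
  obtain ⟨x, hx, hx'⟩ := exists_preimage (W₁ := D l₀) (W₂ := D i) (k := 2) (by omega)
    (c.fin l₀) (c.fin i) ((p i) ∘ₗ (g : V →ₗ[F] V)) (fun z _ => c.dec.mem i _)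
    (fun z hz h0 => hinj l₀ i z hz h0) hy
  have hx'' : p i (g x) = y := hx'
  have h1 := hperp x hx
  rwa [c.dec.polar_right i (g x) hma, hx''] at h1

/-- A binary form vanishing at three points vanishes. -/
theorem quad_zero {A B C x y z : F} (hxy : x ≠ y) (hxz : x ≠ z) (hyz : y ≠ z)
    (h1 : A + x * B + x ^ 2 * C = 0) (h2 : A + y * B + y ^ 2 * C = 0)
    (h3 : A + z * B + z ^ 2 * C = 0) : A = 0 ∧ B = 0 ∧ C = 0 := by
  have hxy' : x - y ≠ 0 := sub_ne_zero.2 hxy
  have hxz' : x - z ≠ 0 := sub_ne_zero.2 hxz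
  have hyz' : y - z ≠ 0 := sub_ne_zero.2 hyz
  have h4 : B + (x + y) * C = 0 := by
    have : (x - y) * (B + (x + y) * C) = 0 := by linear_combination h1 - h2
    exact (mul_eq_zero.1 this).resolve_left hxy'
  have h5 : B + (x + z) * C = 0 := by
    have : (x - z) * (B + (x + z) * C) = 0 := by linear_combination h1 - h3
    exact (mul_eq_zero.1 this).resolve_left hxz'
  have hC : C = 0 := by
    have : (y - z) * C = 0 := by linear_combination h4 - h5
    exact (mul_eq_zero.1 this).resolve_left hyz'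
  have hB : B = 0 := by rw [hC] at h4; linear_combination h4
  refine ⟨?_, hB, hC⟩
  rw [hB, hC] at h1
  linear_combination h1

/-- **Rigid overgroups**, hyperbolic planes. -/
theorem le_or_le [Finite F] (c : HCtx Q D p e f M) (ht : 4 ≤ t) (hR : Rigid Q D M) :
    M ≤ stabFamily D ∨ E Q ≤ M := by
  classical
  by_cases hE : E Q ≤ M
  · exact Or.inr hE
  left
  intro g hg
  by_contra hgD
  have hgO := c.le_O hg
  have hcard := c.card
  have hinj : ∀ l₀ i, ∀ z ∈ D l₀, p i (g z) = 0 → z = 0 := by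
    intro l₀ i z hz h
    by_contra hz0
    exact hE (E_le_of_proj_eq_zero c hR hg hgD hz hz0 h)
  let l₀ : Fin t := ⟨0, by omega⟩
  obtain ⟨v, hvdef⟩ : ∃ v : F → V, v = fun z => e l₀ + z • f l₀ := ⟨_, rfl⟩
  have hv : ∀ z, v z ∈ D l₀ := fun z => by
    rw [hvdef]
    exact (D l₀).add_mem (c.he l₀) ((D l₀).smul_mem _ (c.hf l₀))
  have hQv : ∀ z, Q (v z) = z := by
    intro z
    have := Q_comb (c.hyp l₀) 1 z
    rw [hvdef]
    rwa [one_smul, one_mul] at this
  have hexp : ∀ i z, Q (p i (g (v z))) = Q (p i (g (e l₀))) +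
      z * polar Q (p i (g (e l₀))) (p i (g (f l₀))) + z ^ 2 * Q (p i (g (f l₀))) := by
    intro i z
    rw [hvdef]
    show Q (p i (g (e l₀ + z • f l₀))) = _
    rw [map_add, map_add, map_smul, map_smul, Q_add, QuadraticMap.map_smul, polar_smul_right]
    simp only [smul_eq_mul]
    ring
  -- at most two nonsingular components
  have hS : ∀ z, z ≠ 0 → (Finset.univ.filter fun i => ¬ Q (p i (g (v z))) = 0).card ≤ 2 := by
    intro z hz
    by_contra hcon
    push Not at hcon
    obtain ⟨i, hi, j, hj, l, hl, hij, hil, hjl⟩ := Finset.two_lt_card.1 hcon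
    simp only [Finset.mem_filter, Finset.mem_univ, true_and] at hi hj hl
    have hQvz : Q (v z) ≠ 0 := by rw [hQv]; exact hz
    rcases exists_sq_of_three hi hj hl with ⟨m, hm, h⟩ | ⟨m, hm, h⟩ | ⟨m, hm, h⟩
    · exact false_of_two c hR hg hinj hij (hv z) hQvz hi hm h
    · exact false_of_two c hR hg hinj hil (hv z) hQvz hi hm h
    · exact false_of_two c hR hg hinj hjl (hv z) hQvz hj hm h
  have : Fintype F := Fintype.ofFinite F
  -- at most two zeros for every index
  have hZ : ∀ i, ((Finset.univ.erase (0 : F)).filter fun z => Q (p i (g (v z))) = 0).card ≤ 2 := by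
    intro i
    by_contra hcon
    push Not at hcon
    obtain ⟨x, hx, y, hy, z, hz, hxy, hxz, hyz⟩ := Finset.two_lt_card.1 hcon
    simp only [Finset.mem_filter, hexp] at hx hy hz
    obtain ⟨hA, hB, hC⟩ := quad_zero hxy hxz hyz hx.2 hy.2 hz.2
    have hall : ∀ z ∈ D l₀, Q (p i (g z)) = 0 := by
      intro z hz
      rw [coord (c.fin l₀) (c.he l₀) (c.hf l₀) (c.hyp l₀) hz, map_add, map_add, map_smul, map_smul,
        map_smul, map_smul, Q_add, QuadraticMap.map_smul, QuadraticMap.map_smul, polar_smul_left,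
        polar_smul_right, hA, hB, hC]
      simp
    obtain ⟨z, hz, hz'⟩ := exists_preimage (W₁ := D l₀) (W₂ := D i) (k := 2) (by omega)
      (c.fin l₀) (c.fin i) ((p i) ∘ₗ (g : V →ₗ[F] V)) (fun z _ => c.dec.mem i _)
      (fun z hz h0 => hinj l₀ i z hz h0) ((D i).add_mem (c.he i) (c.hf i))
    have hz'' : p i (g z) = e i + f i := hz'
    have h1 := hall z hz
    rw [hz'', Q_one (c.hyp i)] at h1
    exact one_ne_zero h1
  -- double counting
  have hcount := Finset.sum_card_bipartiteAbove_eq_sum_card_bipartiteBelow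
    (s := (Finset.univ : Finset (Fin t))) (t := Finset.univ.erase (0 : F))
    (fun i z => Q (p i (g (v z))) = 0)
  have h1 : ∑ i : Fin t, (Finset.bipartiteAbove (fun i z => Q (p i (g (v z))) = 0)
      (Finset.univ.erase (0 : F)) i).card ≤ t * 2 := by
    have h2 := Finset.sum_le_card_nsmul (Finset.univ : Finset (Fin t))
      (fun i => (Finset.bipartiteAbove (fun i z => Q (p i (g (v z))) = 0)
        (Finset.univ.erase (0 : F)) i).card) 2 (fun i _ => hZ i)
    rwa [Finset.card_univ, Fintype.card_fin, smul_eq_mul] at h2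
  have h3 : (Finset.univ.erase (0 : F)).card * (t - 2) ≤
      ∑ z ∈ Finset.univ.erase (0 : F), (Finset.bipartiteBelow
        (fun (i : Fin t) z => Q (p i (g (v z))) = 0) Finset.univ z).card := by
    have h2 := Finset.card_nsmul_le_sum (Finset.univ.erase (0 : F))
      (fun z => (Finset.bipartiteBelow
        (fun (i : Fin t) z => Q (p i (g (v z))) = 0) Finset.univ z).card) (t - 2) (fun z hz => ?_)
    · rwa [smul_eq_mul] at h2
    · have h4 := hS z (Finset.ne_of_mem_erase hz)
      have h5 := Finset.card_filter_add_card_filter_not (s := (Finset.univ : Finset (Fin t)))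
        (fun i => Q (p i (g (v z))) = 0)
      rw [Finset.card_univ, Fintype.card_fin] at h5
      show t - 2 ≤ (Finset.univ.filter fun i => Q (p i (g (v z))) = 0).card
      omega
  rw [Finset.card_erase_of_mem (Finset.mem_univ _), Finset.card_univ,
    ← Nat.card_eq_fintype_card] at h3
  have h6 : 6 * (t - 2) ≤ (Nat.card F - 1) * (t - 2) := Nat.mul_le_mul_right _ (by omega)
  omega

end HCtx'

end Cfsg.Agent.H885.HypRigid
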