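import Cfsg.Agent.H885.Irr

/-!
Maximality in `E Q = Ω(Q)` of the stabiliser of a nondegenerate subspace, all characteristics:
`V = W ⊥ U` with `6 ≤ dim U`, `dim W ≤ dim U`, no element of `E Q` mapping `U` onto `W`, and `W` not a hyperbolic
plane over a field of at most three elements.
-/

set_option autoImplicit false

namespace Cfsg.Agent.H885.Nondeg

open QuadraticMap Cfsg.Agent.LieClassical.OrthCore Cfsg.Agent.LieClassical.OrthTrans
  Cfsg.Agent.LieClassical.OrthFinite Cfsg.Agent.LieClassical.OrthSimple Cfsg.Agent.H885.RootT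
  Cfsg.Agent.H885.Irr Cfsg.Agent.H883.Bridge

variable {F V : Type*} [Field F] [AddCommGroup V] [Module F V] {Q : QuadraticForm F V}

/-- `V` is the sum of the orthogonal subspaces `W` and `U`. -/
structure Split (Q : QuadraticForm F V) (W U : Submodule F V) : Prop where
  perp : ∀ w ∈ W, ∀ u ∈ U, polar Q w u = 0
  sup : W ⊔ U = ⊤

variable {W U : Submodule F V}

theorem Split.symm (h : Split Q W U) : Split Q U W :=
  ⟨fun u hu w hw => by rw [polar_comm]; exact h.perp w hw u hu, by rw [sup_comm]; exact h.sup⟩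

theorem Split.perp' (h : Split Q W U) {u w : V} (hu : u ∈ U) (hw : w ∈ W) : polar Q u w = 0 := by
  rw [polar_comm]; exact h.perp w hw u hu

theorem Split.exists_add (h : Split Q W U) (v : V) : ∃ w ∈ W, ∃ u ∈ U, w + u = v :=
  Submodule.mem_sup.1 (by rw [h.sup]; exact Submodule.mem_top)

theorem Split.ndOn_left (h : Split Q W U) (hQ : Nondeg Q) : NdOn Q W := by
  intro w hw hall
  apply hQ
  intro y
  obtain ⟨w', hw', u, hu, rfl⟩ := h.exists_add y
  rw [polar_add_right, hall w' hw', h.perp w hw u hu, add_zero]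

theorem Split.ndOn_right (h : Split Q W U) (hQ : Nondeg Q) : NdOn Q U := h.symm.ndOn_left hQ

theorem Split.mem_right_iff (h : Split Q W U) (hQ : Nondeg Q) {v : V} :
    v ∈ U ↔ ∀ w ∈ W, polar Q w v = 0 := by
  constructor
  · intro hv w hw
    exact h.perp w hw v hv
  · intro hv
    obtain ⟨w', hw', u, hu, rfl⟩ := h.exists_add v
    have h1 : w' = 0 := by
      apply h.ndOn_left hQ w' hw'
      intro y hy
      have := hv y hy
      rwa [polar_add_right, h.perp y hy u hu, add_zero, polar_comm] at this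
    rw [h1, zero_add]
    exact hu

theorem Split.mem_left_iff (h : Split Q W U) (hQ : Nondeg Q) {v : V} :
    v ∈ W ↔ ∀ u ∈ U, polar Q u v = 0 := h.symm.mem_right_iff hQ

theorem Split.inf (h : Split Q W U) (hQ : Nondeg Q) : W ⊓ U = ⊥ := by
  rw [eq_bot_iff]
  rintro v ⟨hv1, hv2⟩
  rw [Submodule.mem_bot]
  exact h.ndOn_left hQ v hv1 fun y hy => h.perp' hv2 hy

theorem Split.finrank [Module.Finite F V] (h : Split Q W U) (hQ : Nondeg Q) :
    Module.finrank F W + Module.finrank F U = Module.finrank F V := by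
  have h1 := Submodule.finrank_sup_add_finrank_inf_eq W U
  rw [h.sup, h.inf hQ, finrank_top, finrank_bot] at h1
  omega

/-- An isometry stabilises `W` iff it stabilises `U`. -/
theorem Split.mem_stab_iff (h : Split Q W U) (hQ : Nondeg Q) {g : V ≃ₗ[F] V} (hg : g ∈ O Q) :
    g ∈ stab W ↔ g ∈ stab U := by
  have key : ∀ {W U : Submodule F V}, Split Q W U → g ∈ stab W → g ∈ stab U := by
    intro W U h hgW v
    rw [h.mem_right_iff hQ, h.mem_right_iff hQ]
    constructor
    · intro hv w hw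
      obtain ⟨w, rfl⟩ := g.surjective w
      rw [polar_map hg]
      exact hv w ((hgW w).2 hw)
    · intro hv w hw
      rw [← polar_map hg]
      exact hv _ ((hgW w).1 hw)
  exact ⟨key h, key h.symm⟩

theorem Split.stab_inf_E (h : Split Q W U) (hQ : Nondeg Q) : stab W ⊓ E Q = stab U ⊓ E Q := by
  ext g
  constructor
  · rintro ⟨h1, h2⟩
    exact ⟨(h.mem_stab_iff hQ (E_le_O h2)).1 h1, h2⟩
  · rintro ⟨h1, h2⟩
    exact ⟨(h.mem_stab_iff hQ (E_le_O h2)).2 h1, h2⟩

/-- Siegel transformations inside `U` stabilise `W`. -/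
theorem Split.SM_right [Module.Finite F V] (h : Split Q W U) {x w : V} (hx : x ∈ U) (hw : w ∈ U)
    (hQx : Q x = 0) (hxw : polar Q x w = 0) : SM (stab W ⊓ E Q) Q x w := by
  refine ⟨hQx, hxw, ?_, siegel_mem_E _ _⟩
  apply mem_stab_of_le
  intro y hy
  rw [siegel_apply, h.perp' hx hy, h.perp' hw hy]
  simpa using hy

/-- Siegel transformations inside `W` stabilise `W`. -/
theorem Split.SM_left [Module.Finite F V] {x w : V} (hx : x ∈ W) (hw : w ∈ W)
    (hQx : Q x = 0) (hxw : polar Q x w = 0) : SM (stab W ⊓ E Q) Q x w := by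
  refine ⟨hQx, hxw, ?_, siegel_mem_E _ _⟩
  apply mem_stab_of_le
  intro y hy
  rw [siegel_apply]
  exact W.sub_mem (W.sub_mem (W.add_mem hy (W.smul_mem _ hw)) (W.smul_mem _ hx)) (W.smul_mem _ hx)

theorem Split.mem_T_right [Module.Finite F V] (h : Split Q W U) {x w : V} (hx : x ∈ U) (hw : w ∈ U)
    (hQx : Q x = 0) (hxw : polar Q x w = 0) : w ∈ T (stab W ⊓ E Q) Q x hQx := fun c =>
  h.SM_right hx (U.smul_mem c hw) hQx (by rw [polar_smul_right, hxw, smul_zero])

/-! ### Elements of `E (Q|U)` -/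

theorem polar_comp_subtype (U : Submodule F V) (x y : U) :
    polar (Q.comp U.subtype) x y = polar Q (x : V) (y : V) := rfl

theorem comp_subtype_apply (U : Submodule F V) (x : U) : (Q.comp U.subtype) x = Q (x : V) := rfl

theorem nondeg_comp (hU : NdOn Q U) : Nondeg (Q.comp U.subtype) := by
  intro x hx
  exact Subtype.ext (hU x x.2 fun y hy => hx ⟨y, hy⟩)

/-- Elements of `E (Q|U)` extend to elements of any group containing the Siegel transformations of
`U`. -/
theorem exists_ext {D : Subgroup (V ≃ₗ[F] V)}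
    (hD : ∀ x ∈ U, ∀ w ∈ U, Q x = 0 → polar Q x w = 0 → SM D Q x w) {g : U ≃ₗ[F] U}
    (hg : g ∈ E (Q.comp U.subtype)) :
    ∃ g' ∈ D, (∀ u : U, g' (u : V) = (g u : V)) ∧
      ∀ w : V, (∀ u ∈ U, polar Q u w = 0) → g' w = w := by
  induction hg using Subgroup.closure_induction with
  | mem x hx =>
    obtain ⟨u, w, hu, hw, rfl⟩ := hx
    have hu' : Q (u : V) = 0 := hu
    have hw' : polar Q (u : V) (w : V) = 0 := hw
    refine ⟨siegel Q u w hu' hw', (hD u u.2 w w.2 hu' hw').mem hu' hw', fun v => ?_, fun v hv => ?_⟩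
    · rw [siegel_apply, siegel_apply]
      rfl
    · rw [siegel_apply, hv u u.2, hv w w.2]
      simp
  | one => exact ⟨1, D.one_mem, fun u => rfl, fun w _ => rfl⟩
  | mul x y _ _ hx hy =>
    obtain ⟨g1, h1, e1, f1⟩ := hx
    obtain ⟨g2, h2, e2, f2⟩ := hy
    refine ⟨g1 * g2, D.mul_mem h1 h2, fun u => ?_, fun w hw => ?_⟩
    · show g1 (g2 u) = _
      rw [e2, e1]
      rfl
    · show g1 (g2 w) = w
      rw [f2 w hw, f1 w hw]
  | inv x _ hx =>
    obtain ⟨g1, h1, e1, f1⟩ := hx
    refine ⟨g1⁻¹, D.inv_mem h1, fun u => ?_, fun w hw => ?_⟩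
    · show g1.symm u = _
      rw [LinearEquiv.symm_apply_eq, e1]
      congr 1
      exact (LinearEquiv.apply_symm_apply x u).symm
    · show g1.symm w = w
      rw [LinearEquiv.symm_apply_eq, f1 w hw]

/-- A group containing the Siegel transformations of `U` is transitive on the nonzero singular
vectors of `U`. -/
theorem exists_trans {D : Subgroup (V ≃ₗ[F] V)} (hGU : Good (Q.comp U.subtype))
    (hD : ∀ x ∈ U, ∀ w ∈ U, Q x = 0 → polar Q x w = 0 → SM D Q x w) {x y : V} (hx : x ∈ U)
    (hy : y ∈ U) (hx0 : x ≠ 0) (hy0 : y ≠ 0) (hQx : Q x = 0) (hQy : Q y = 0) :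
    ∃ g ∈ D, g x = y := by
  obtain ⟨g, hg, e⟩ := hGU.trans_sing (x := ⟨x, hx⟩) (x' := ⟨y, hy⟩) hQx hQy
    (fun h => hx0 (congrArg Subtype.val h)) (fun h => hy0 (congrArg Subtype.val h))
  obtain ⟨g', hg', e', -⟩ := exists_ext hD hg
  exact ⟨g', hg', by rw [e' ⟨x, hx⟩, e]⟩

/-- Singular vectors span `U`. -/
theorem le_of_sing (hGU : Good (Q.comp U.subtype)) {S : Submodule F V}
    (h : ∀ x ∈ U, Q x = 0 → x ∈ S) : U ≤ S := by
  intro v hv
  obtain ⟨x, y, hxy⟩ := hGU.exists_hyp
  exact sing_induction hxy (P := fun a : U => (a : V) ∈ S) (fun a c ha hc => S.add_mem ha hc)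
    (fun a ha => h a a.2 ha) ⟨v, hv⟩

/-- In `U ∩ a^⊥`, `a ∈ U` singular, every norm occurs. -/
theorem exists_norm (hGU : Good (Q.comp U.subtype)) {a : V} (ha : a ∈ U) (ha0 : a ≠ 0)
    (hQa : Q a = 0) (c : F) : ∃ v ∈ U, polar Q a v = 0 ∧ Q v = c := by
  obtain ⟨b, hb⟩ := Cfsg.Agent.LieClassical.OrthTrans.exists_hyp hGU.nondeg (x := ⟨a, ha⟩) hQa
    (fun h => ha0 (congrArg Subtype.val h))
  obtain ⟨z, w, hzw, h1, h2, -, -⟩ := hGU.exists_hyp2 hb
  refine ⟨z + c • w, U.add_mem z.2 (U.smul_mem c w.2), ?_, ?_⟩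
  · have h1' : polar Q a z = 0 := h1
    have h2' : polar Q a w = 0 := h2
    rw [polar_add_right, polar_smul_right, h1', h2', smul_zero, add_zero]
  · have h3 : Q (z : V) = 0 := hzw.left
    have h4 : Q (w : V) = 0 := hzw.right
    have h5 : polar Q (z : V) (w : V) = 1 := hzw.pair
    rw [Q_add, QuadraticMap.map_smul, polar_smul_right, h3, h4, h5]
    simp

/-- Product of a reflection of `W` and a reflection of `U` with vectors of the same norm. -/
theorem Split.refl_mul_refl_mem [Module.Finite F V] (h : Split Q W U) (hG : Good Q) {v v' : V}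
    (hv : v ∈ W) (hv' : v' ∈ U) (hQv : Q v ≠ 0) (hQv' : Q v' ≠ 0) (he : Q v' = Q v) :
    refl Q v hQv * refl Q v' hQv' ∈ stab W ⊓ E Q := by
  refine ⟨?_, hG.refl_mul_refl_mem hQv' hQv he⟩
  apply mem_stab_of_le
  intro y hy
  show refl Q v hQv (refl Q v' hQv' y) ∈ W
  have h1 : refl Q v' hQv' y = y := by
    rw [refl_apply, h.perp' hv' hy]
    simp
  rw [h1, refl_apply]
  exact W.sub_mem hy (W.smul_mem _ hv)

/-- **Step A.** If `T_a(M) ∩ W ≠ 0` for a nonzero singular `a ∈ U` then `M = E Q`. -/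
theorem Split.E_le_of_mem_T [Finite F] [Module.Finite F V] (h : Split Q W U) (hG : Good Q)
    (hU : 5 ≤ Module.finrank F U)
    (hex : ¬ (Nat.card F ≤ 3 ∧ Module.finrank F W = 2 ∧ ∃ x ∈ W, x ≠ 0 ∧ Q x = 0))
    {M : Subgroup (V ≃ₗ[F] V)} (hM : stab W ⊓ E Q ≤ M) (hMO : M ≤ O Q) {a w : V} (ha : a ∈ U)
    (ha0 : a ≠ 0) (hQa : Q a = 0) (hw : w ∈ W) (hw0 : w ≠ 0) (hwT : w ∈ T M Q a hQa) :
    E Q ≤ M := by
  have hGU : Good (Q.comp U.subtype) := good_of_finite (nondeg_comp (h.ndOn_right hG.nondeg)) hU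
  have hZ : T M Q a hQa ⊓ W = W := by
    refine irr_sub inf_le_right (h.ndOn_left hG.nondeg) ?_ ?_ ?_ hex
    · intro hb
      have : w ∈ T M Q a hQa ⊓ W := ⟨hwT, hw⟩
      rw [hb, Submodule.mem_bot] at this
      exact hw0 this
    · rintro v hv hQv z ⟨hz1, hz2⟩
      obtain ⟨v', hv', hav', hQv'⟩ := exists_norm hGU ha ha0 hQa (Q v)
      have hQv'0 : Q v' ≠ 0 := by rw [hQv']; exact hQv
      have hm := h.refl_mul_refl_mem hG hv hv' hQv hQv'0 hQv'
      have e1 : (refl Q v hQv * refl Q v' hQv'0) a = a := by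
        show refl Q v hQv (refl Q v' hQv'0 a) = a
        have e0 : refl Q v' hQv'0 a = a := by
          rw [refl_apply, polar_comm Q v' a, hav']
          simp
        rw [e0, refl_apply, h.perp v hv a ha]
        simp
      have e2 : (refl Q v hQv * refl Q v' hQv'0) z = refl Q v hQv z := by
        show refl Q v hQv (refl Q v' hQv'0 z) = _
        congr 1
        rw [refl_apply, h.perp' hv' hz2]
        simp
      refine ⟨?_, ?_⟩
      · have h3 := T_conj (hM hm) (hMO (hM hm)) hz1 (by rw [e1]; exact hQa)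
        rw [e2] at h3
        show refl Q v hQv z ∈ T M Q a hQa
        simpa only [e1] using h3
      · rw [refl_apply]
        exact W.sub_mem hz2 (W.smul_mem _ hv)
    · rintro x hx y hy hQx hxy z ⟨hz1, hz2⟩
      have hm := (Split.SM_left (Q := Q) hx hy hQx hxy).mem hQx hxy
      have e1 : siegel Q x y hQx hxy a = a := by
        rw [siegel_apply, h.perp x hx a ha, h.perp y hy a ha]
        simp
      refine ⟨?_, (hm.1 z).1 hz2⟩
      have h3 := T_conj (hM hm) (hMO (hM hm)) hz1 (by rw [e1]; exact hQa)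
      show siegel Q x y hQx hxy z ∈ T M Q a hQa
      simpa only [e1] using h3
  have hfull : Full M Q a := by
    refine full_of_T_eq (hx := hQa) fun v hv => ?_
    obtain ⟨w', hw', u, hu, rfl⟩ := h.exists_add v
    have hau : polar Q a u = 0 := by
      rwa [polar_add_right, h.perp' ha hw', zero_add] at hv
    have h1 : w' ∈ T M Q a hQa := by
      rw [← hZ] at hw'
      exact hw'.1
    exact Submodule.add_mem _ h1 (T_mono hM (h.mem_T_right ha hu hQa hau))
  obtain ⟨b, hb⟩ := Cfsg.Agent.LieClassical.OrthTrans.exists_hyp hGU.nondeg (x := ⟨a, ha⟩) hQa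
    (fun h => ha0 (congrArg Subtype.val h))
  have hab : polar Q a (b : V) = 1 := hb.pair
  have hb0 : (b : V) ≠ 0 := by
    intro h0
    rw [h0, polar_zero_right] at hab
    exact zero_ne_one hab
  obtain ⟨g, hg, e⟩ := exists_trans hGU (D := stab W ⊓ E Q)
    (fun x hx w hw h1 h2 => h.SM_right hx hw h1 h2) ha b.2 ha0 hb0 hQa hb.right
  have hfb : Full M Q (b : V) := by
    rw [← e]
    exact hfull.conj (hM hg) (hMO (hM hg))
  exact E_le_of_full hG hMO hfull hfb (by rw [hab]; exact one_ne_zero)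

/-- A commutator computation: if `w ∈ T_l(M)`, `b ⊥ w`, `b` not orthogonal to `l`, `a ⊥ l, w, b` singular
and `b ∈ T_a(M)`, then `w ∈ T_a(M)`. -/
theorem mem_T_of_commutator {M : Subgroup (V ≃ₗ[F] V)} (hMO : M ≤ O Q) {l w a b : V}
    {hl : Q l = 0} (hw : w ∈ T M Q l hl) {ha : Q a = 0} (hal : polar Q l a = 0)
    (haw : polar Q w a = 0) (hbw : polar Q w b = 0) (hbl : polar Q l b ≠ 0) (hQw : Q w = 0)
    (hb : b ∈ T M Q a ha) : w ∈ T M Q a ha := by
  have hS := SM_of_mem_T hw
  have hlw := hS.perp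
  have hm := hS.mem hl hlw
  have e1 : siegel Q l w hl hlw a = a := by
    rw [siegel_apply, hal, haw]; simp
  have e2 : siegel Q l w hl hlw b = b + polar Q l b • w := by
    rw [siegel_apply, hbw, hQw]; simp
  have h1 := T_conj hm (hMO hm) hb (by rw [e1]; exact ha)
  rw [e2] at h1
  have h2 : b + polar Q l b • w ∈ T M Q a ha := by simpa only [e1] using h1
  have h3 := Submodule.sub_mem _ h2 hb
  rw [add_sub_cancel_left] at h3
  exact ((T M Q a ha).smul_mem_iff hbl).1 h3

/-- **Maximality of the stabiliser of a nondegenerate subspace** (the smaller one, `W`). -/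
theorem Split.maximal [Finite F] [Module.Finite F V] (h : Split Q W U) (hQ : Nondeg Q)
    (hU : 6 ≤ Module.finrank F U) (hWU : Module.finrank F W ≤ Module.finrank F U) (hW0 : W ≠ ⊥)
    (hex : ¬ (Nat.card F ≤ 3 ∧ Module.finrank F W = 2 ∧ ∃ x ∈ W, x ≠ 0 ∧ Q x = 0))
    (hniso : ∀ g ∈ E Q, U.map (g : V →ₗ[F] V) ≠ W) :
    Cfsg.Geo.IsMaximalIn (E Q) (stab W ⊓ E Q) := by
  have hfr := h.finrank hQ
  have hG : Good Q := good_of_finite hQ (by omega)
  have hGU : Good (Q.comp U.subtype) :=
    good_of_finite (nondeg_comp (h.ndOn_right hQ)) (by omega)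
  refine ⟨lt_of_le_of_ne inf_le_right ?_, fun M hM hME => ?_⟩
  · -- properness
    intro heq
    obtain ⟨x, hx0, hQx⟩ := hGU.sing
    have hx0' : (x : V) ≠ 0 := fun h0 => hx0 (Subtype.ext h0)
    obtain ⟨w, hw, hw0⟩ := Submodule.exists_mem_ne_zero_of_ne_bot hW0
    obtain ⟨w', hw', hww'⟩ := (h.ndOn_left hQ).exists_ne hw hw0
    have hxw : polar Q (x : V) w = 0 := h.perp' x.2 hw
    replace hQx : Q (x : V) = 0 := hQx
    have hm : siegel Q (x : V) w hQx hxw ∈ stab W ⊓ E Q := by
      rw [heq]; exact siegel_mem_E _ _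
    have h1 := (hm.1 w').1 hw'
    rw [siegel_apply, h.perp' x.2 hw'] at h1
    have h2 : polar Q w w' • (x : V) ∈ W := by
      have h3 := W.sub_mem hw' h1
      have e : w' - (w' + (0 : F) • w - polar Q w w' • (x : V) - (Q w * 0) • (x : V)) =
          polar Q w w' • (x : V) := by module
      rwa [e] at h3
    have h3 : (x : V) ∈ W := (W.smul_mem_iff hww').1 h2
    have h4 : (x : V) ∈ W ⊓ U := ⟨h3, x.2⟩
    rw [h.inf hQ, Submodule.mem_bot] at h4
    exact hx0' h4
  · by_cases hMW : M ≤ stab W ⊓ E Q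
    · exact Or.inl (le_antisymm hMW hM)
    right
    have hMO : M ≤ O Q := hME.trans E_le_O
    obtain ⟨g, hgM, hg⟩ := SetLike.not_le_iff_exists.1 hMW
    have hgO : g ∈ O Q := hMO hgM
    have hgW : g ∉ stab U := fun hgU => hg ⟨(h.mem_stab_iff hQ hgO).2 hgU, hME hgM⟩
    -- a singular vector of `U` mapped outside `U ∪ W`
    obtain ⟨x, hxU, hQx, hgxU, hgxW⟩ :
        ∃ x ∈ U, Q x = 0 ∧ g x ∉ U ∧ g x ∉ W := by
      by_contra hcon
      push Not at hcon
      obtain ⟨x₁, hx₁, hQx₁, hgx₁⟩ : ∃ x ∈ U, Q x = 0 ∧ g x ∉ U := by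
        by_contra hc
        push Not at hc
        apply hgW
        apply mem_stab_of_le
        intro v hv
        exact (le_of_sing hGU (S := U.comap (g : V →ₗ[F] V)) hc) hv
      obtain ⟨x₂, hx₂, hQx₂, hgx₂⟩ : ∃ x ∈ U, Q x = 0 ∧ g x ∉ W := by
        by_contra hc
        push Not at hc
        have h1 : U ≤ W.comap (g : V →ₗ[F] V) := le_of_sing hGU hc
        apply hniso g (hME hgM)
        have h2 : U.map (g : V →ₗ[F] V) ≤ W := Submodule.map_le_iff_le_comap.2 h1
        refine Submodule.eq_of_le_of_finrank_le h2 ?_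
        rw [LinearEquiv.finrank_map_eq g U]
        exact hWU
      have h1 : g x₁ ∈ W := hcon x₁ hx₁ hQx₁ hgx₁
      have h2 : g x₂ ∈ U := by
        by_contra h2
        exact hgx₂ (hcon x₂ hx₂ hQx₂ h2)
      have h3 : polar Q x₁ x₂ = 0 := by rw [← polar_map hgO]; exact h.perp _ h1 _ h2
      have h4 : Q (x₁ + x₂) = 0 := by rw [Q_add, hQx₁, hQx₂, h3]; simp
      by_cases h5 : g (x₁ + x₂) ∈ U
      · rw [map_add] at h5
        apply hgx₁
        have := U.sub_mem h5 h2
        rwa [add_sub_cancel_right] at this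
      · have h6 := hcon _ (U.add_mem hx₁ hx₂) h4 h5
        rw [map_add] at h6
        apply hgx₂
        have := W.sub_mem h6 h1
        rwa [add_sub_cancel_left] at this
    have hx0 : x ≠ 0 := by
      rintro rfl
      apply hgxU
      rw [map_zero]
      exact U.zero_mem
    -- a second singular vector of `U` orthogonal to `x`
    obtain ⟨y, hyU, hy0, hQy, hxy, hyx⟩ : ∃ y ∈ U, y ≠ 0 ∧ Q y = 0 ∧ polar Q x y = 0 ∧
        ∀ c : F, y ≠ c • x := by
      obtain ⟨x', hx'⟩ := Cfsg.Agent.LieClassical.OrthTrans.exists_hyp hGU.nondeg (x := ⟨x, hxU⟩) hQx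
        (fun h => hx0 (congrArg Subtype.val h))
      obtain ⟨y, hy0, hQy, h1, h2⟩ := hGU.perp _ _ hx'
      refine ⟨y, y.2, fun h0 => hy0 (Subtype.ext h0), hQy, h1, fun c hc => ?_⟩
      have h3 : polar Q (x' : V) (y : V) = 0 := h2
      have h4 : polar Q x (x' : V) = 1 := hx'.pair
      rw [hc, polar_smul_right, polar_comm, h4, smul_eq_mul, mul_one] at h3
      rw [h3, zero_smul] at hc
      exact hy0 (Subtype.ext hc)
    have hgyT : g y ∈ T M Q (g x) (by rw [mem_O.1 hgO]; exact hQx) :=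
      T_conj hgM hgO (T_mono hM (h.mem_T_right hxU hyU hQx hxy)) _
    have hQp : Q (g x) = 0 := by rw [mem_O.1 hgO]; exact hQx
    have hQs : Q (g y) = 0 := by rw [mem_O.1 hgO]; exact hQy
    have hps : polar Q (g x) (g y) = 0 := by rw [polar_map hgO]; exact hxy
    have hsp : ∀ c : F, g y ≠ c • g x := by
      intro c hc
      rw [← map_smul] at hc
      exact hyx c (g.injective hc)
    -- the key data
    obtain ⟨l, w, b, hQl, hQw, hwT, hbU, hQb, hwb, hlb, hwU, hl, hw⟩ :
        ∃ (l w b : V) (hQl : Q l = 0) (_ : Q w = 0), w ∈ T M Q l hQl ∧ b ∈ U ∧ Q b = 0 ∧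
          polar Q w b = 0 ∧ polar Q l b ≠ 0 ∧ w ∉ U ∧
          (∀ a, polar Q (g x) a = 0 → polar Q (g y) a = 0 → polar Q l a = 0) ∧
          (∀ a, polar Q (g x) a = 0 → polar Q (g y) a = 0 → polar Q w a = 0) := by
      by_cases hLU : ∃ α β : F, (α • g x + β • g y) ∈ U ∧ (α • g x + β • g y) ≠ 0
      · obtain ⟨α, β, h1, h2⟩ := hLU
        set s := α • g x + β • g y with hs
        have hQs' : Q s = 0 := by
          rw [hs, Q_add, QuadraticMap.map_smul, QuadraticMap.map_smul, polar_smul_left,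
            polar_smul_right, hQp, hQs, hps]
          simp
        have hβ : β ≠ 0 := by
          rintro rfl
          rw [zero_smul, add_zero] at hs
          have hα : α ≠ 0 := by
            rintro rfl
            exact h2 (by rw [hs, zero_smul])
          rw [hs] at h1
          exact hgxU ((U.smul_mem_iff hα).1 h1)
        have hsT : s ∈ T M Q (g x) hQp :=
          Submodule.add_mem _ (Submodule.smul_mem _ _ (self_mem_T _)) (Submodule.smul_mem _ _ hgyT)
        have hpT : g x ∈ T M Q s hQs' := T_symm hsT hQs'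
        obtain ⟨b, hbU, hQb, hsb⟩ : ∃ b ∈ U, Q b = 0 ∧ polar Q s b ≠ 0 := by
          obtain ⟨b, hb⟩ := Cfsg.Agent.LieClassical.OrthTrans.exists_hyp hGU.nondeg (x := ⟨s, h1⟩) hQs'
            (fun h => h2 (congrArg Subtype.val h))
          refine ⟨b, b.2, hb.right, ?_⟩
          have : polar Q s (b : V) = 1 := hb.pair
          rw [this]
          exact one_ne_zero
        have hxp : polar Q (g x) s = 0 := perp_of_mem_T hsT
        refine ⟨s, g x - (polar Q (g x) b * (polar Q s b)⁻¹) • s, b, hQs', ?_,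
          Submodule.sub_mem _ hpT (Submodule.smul_mem _ _ (self_mem_T _)), hbU, hQb, ?_, hsb,
          ?_, ?_, ?_⟩
        · rw [sub_eq_add_neg, Q_add, QuadraticMap.map_neg, polar_neg_right, QuadraticMap.map_smul,
            polar_smul_right, hQp, hQs', hxp]
          simp
        · rw [polar_sub_left, polar_smul_left, smul_eq_mul, mul_assoc, inv_mul_cancel₀ hsb]
          ring
        · intro h3
          apply hgxU
          have := U.add_mem h3 (U.smul_mem (polar Q (g x) b * (polar Q s b)⁻¹) h1)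
          rwa [sub_add_cancel] at this
        · intro a h3 h4
          rw [hs, polar_add_left, polar_smul_left, polar_smul_left, h3, h4]
          simp
        · intro a h3 h4
          have h5 : polar Q s a = 0 := by
            rw [hs, polar_add_left, polar_smul_left, polar_smul_left, h3, h4]
            simp
          rw [polar_sub_left, polar_smul_left, h5, h3]
          simp
      · push Not at hLU
        obtain ⟨b, hbU, hQb, hpb⟩ : ∃ b ∈ U, Q b = 0 ∧ polar Q (g x) b ≠ 0 := by
          by_contra hc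
          push Not at hc
          apply hgxW
          rw [h.mem_left_iff hQ]
          have h3 : U ≤ LinearMap.ker (polarBilin Q (g x)) := le_of_sing hGU fun b hb hQb => by
            rw [LinearMap.mem_ker]
            exact hc b hb hQb
          intro u hu
          rw [polar_comm]
          exact LinearMap.mem_ker.1 (h3 hu)
        refine ⟨g x, g y - (polar Q (g y) b * (polar Q (g x) b)⁻¹) • g x, b, hQp, ?_,
          Submodule.sub_mem _ hgyT (Submodule.smul_mem _ _ (self_mem_T _)), hbU, hQb, ?_, hpb,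
          ?_, fun a h3 _ => h3, ?_⟩
        · rw [sub_eq_add_neg, Q_add, QuadraticMap.map_neg, polar_neg_right, QuadraticMap.map_smul,
            polar_smul_right, hQp, hQs, polar_comm Q (g y) (g x), hps]
          simp
        · rw [polar_sub_left, polar_smul_left, smul_eq_mul, mul_assoc, inv_mul_cancel₀ hpb]
          ring
        · intro h3
          have e : g y - (polar Q (g y) b * (polar Q (g x) b)⁻¹) • g x =
              (-(polar Q (g y) b * (polar Q (g x) b)⁻¹)) • g x + (1 : F) • g y := by module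
          rw [e] at h3
          have h4 := hLU _ _ h3
          rw [← e, sub_eq_zero] at h4
          exact hsp _ h4
        · intro a h3 h4
          rw [polar_sub_left, polar_smul_left, h3, h4]
          simp
    obtain ⟨a, haU, ha0, hQa, hap⟩ :=
      exists_sing_mem_perp (Q := Q) ![g x, g y, b] U (by omega)
    have h1 : polar Q (g x) a = 0 := hap 0
    have h2 : polar Q (g y) a = 0 := hap 1
    have h3 : polar Q b a = 0 := hap 2
    have hbT : b ∈ T M Q a hQa :=
      T_mono hM (h.mem_T_right haU hbU hQa (by rw [polar_comm]; exact h3))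
    have hwTa : w ∈ T M Q a hQa :=
      mem_T_of_commutator hMO hwT (hl a h1 h2) (hw a h1 h2) hwb hlb hQw hbT
    obtain ⟨w₀, hw₀, u₀, hu₀, e⟩ := h.exists_add w
    have hw₀0 : w₀ ≠ 0 := by
      rintro rfl
      rw [zero_add] at e
      exact hwU (by rw [← e]; exact hu₀)
    have hau₀ : polar Q a u₀ = 0 := by
      have := perp_of_mem_T hwTa
      rwa [← e, polar_add_right, h.perp' haU hw₀, zero_add] at this
    have hw₀T : w₀ ∈ T M Q a hQa := by
      have := Submodule.sub_mem _ hwTa (T_mono hM (h.mem_T_right haU hu₀ hQa hau₀))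
      rwa [← e, add_sub_cancel_right] at this
    exact le_antisymm hME
      (h.E_le_of_mem_T hG (by omega) hex hM hMO haU ha0 hQa hw₀ hw₀0 hw₀T)

end Cfsg.Agent.H885.Nondeg
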