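import Cfsg.Agent.H883.Bridge

/-!
Calculus of the Siegel transformations contained in a subgroup `H` of the isometry group of a quadratic
form `Q`: `SM H Q x w` says that `siegel Q x w` makes sense and lies in `H`; `T H Q x` is the subspace of the
vectors `w` such that all `siegel Q x (c • w)` lie in `H`; `Full H Q x` says that all `siegel Q x w` lie in `H`.
Two non-orthogonal full singular vectors generate `E Q`.
-/

set_option autoImplicit false

namespace Cfsg.Agent.H885.RootT

open QuadraticMap Cfsg.Agent.LieClassical.OrthCore Cfsg.Agent.LieClassical.OrthTrans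
  Cfsg.Agent.LieClassical.OrthFinite Cfsg.Agent.LieClassical.OrthSimple

variable {F V : Type*} [Field F] [AddCommGroup V] [Module F V]

/-- `siegel Q x w` makes sense (`x` singular, `w ⊥ x`) and lies in `H`. -/
def SM (H : Subgroup (V ≃ₗ[F] V)) (Q : QuadraticForm F V) (x w : V) : Prop :=
  ∃ (hx : Q x = 0) (hw : polar Q x w = 0), siegel Q x w hx hw ∈ H

variable {Q : QuadraticForm F V} {H : Subgroup (V ≃ₗ[F] V)}

theorem SM.sing {x w : V} (h : SM H Q x w) : Q x = 0 := h.1

theorem SM.perp {x w : V} (h : SM H Q x w) : polar Q x w = 0 := h.2.1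

theorem SM.mem {x w : V} (h : SM H Q x w) (hx : Q x = 0) (hw : polar Q x w = 0) :
    siegel Q x w hx hw ∈ H := h.2.2

theorem SM.mono {H' : Subgroup (V ≃ₗ[F] V)} (hH : H ≤ H') {x w : V} (h : SM H Q x w) :
    SM H' Q x w := ⟨h.1, h.2.1, hH h.2.2⟩

theorem SM_E {x w : V} (hx : Q x = 0) (hw : polar Q x w = 0) : SM (E Q) Q x w :=
  ⟨hx, hw, siegel_mem_E hx hw⟩

theorem SM.zero {x : V} (hx : Q x = 0) : SM H Q x 0 := by
  refine ⟨hx, polar_zero_right _ _, ?_⟩
  have : siegel Q x 0 hx (polar_zero_right _ _) = 1 := by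
    ext v
    rw [siegel_apply]
    simp
  rw [this]
  exact H.one_mem

theorem SM.self {x : V} (hx : Q x = 0) (c : F) : SM H Q x (c • x) := by
  have h0 : polar Q x (c • x) = 0 := by
    rw [polar_smul_right, polar_self_of_sing hx, smul_zero]
  refine ⟨hx, h0, ?_⟩
  have : siegel Q x (c • x) hx h0 = 1 := by
    ext v
    rw [siegel_apply, QuadraticMap.map_smul, hx, polar_smul_left]
    show _ = v
    simp only [smul_eq_mul]
    module
  rw [this]
  exact H.one_mem

theorem SM.add {x w w' : V} (h : SM H Q x w) (h' : SM H Q x w') : SM H Q x (w + w') := by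
  obtain ⟨hx, hw, hm⟩ := h
  obtain ⟨_, hw', hm'⟩ := h'
  have h0 : polar Q x (w + w') = 0 := by rw [polar_add_right, hw, hw', add_zero]
  exact ⟨hx, h0, siegel_add_mem hx hw hw' h0 hm hm'⟩

theorem SM.neg {x w : V} (h : SM H Q x w) : SM H Q x (-w) := by
  obtain ⟨hx, hw, hm⟩ := h
  have h0 : polar Q x (-w) = 0 := by rw [polar_neg_right, hw, neg_zero]
  refine ⟨hx, h0, ?_⟩
  rw [← siegel_inv hx hw h0]
  exact H.inv_mem hm

theorem SM.sub {x w w' : V} (h : SM H Q x w) (h' : SM H Q x w') : SM H Q x (w - w') := by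
  rw [sub_eq_add_neg]
  exact h.add h'.neg

theorem SM.conj {g : V ≃ₗ[F] V} (hg : g ∈ H) (hO : g ∈ O Q) {x w : V} (h : SM H Q x w) :
    SM H Q (g x) (g w) := by
  obtain ⟨hx, hw, hm⟩ := h
  have hx' : Q (g x) = 0 := by rw [mem_O.1 hO]; exact hx
  have hw' : polar Q (g x) (g w) = 0 := by rw [polar_map hO]; exact hw
  refine ⟨hx', hw', ?_⟩
  rw [← siegel_conj hO hx hw hx' hw']
  exact H.mul_mem (H.mul_mem hg hm) (H.inv_mem hg)

/-- For orthogonal singular vectors `siegel x w = siegel w (-x)`. -/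
theorem siegel_swap {x w : V} (hx : Q x = 0) (hw : polar Q x w = 0) (hw0 : Q w = 0)
    (hx' : polar Q w (-x) = 0) : siegel Q x w hx hw = siegel Q w (-x) hw0 hx' := by
  ext v
  rw [siegel_apply, siegel_apply, QuadraticMap.map_neg, polar_neg_left, hw0, hx]
  module

theorem SM.symm {x w : V} (h : SM H Q x w) (hw0 : Q w = 0) : SM H Q w (-x) := by
  obtain ⟨hx, hw, hm⟩ := h
  have h0 : polar Q w (-x) = 0 := by rw [polar_neg_right, polar_comm, hw, neg_zero]
  refine ⟨hw0, h0, ?_⟩
  rw [← siegel_swap hx hw hw0 h0]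
  exact hm

theorem SM.smul_left {x w : V} {c : F} (h : SM H Q x (c • w)) (hw : polar Q x w = 0) :
    SM H Q (c • x) w := by
  obtain ⟨hx, hcw, hm⟩ := h
  have h0 : Q (c • x) = 0 := by rw [QuadraticMap.map_smul, hx, smul_zero]
  have h1 : polar Q (c • x) w = 0 := by rw [polar_smul_left, hw, smul_zero]
  refine ⟨h0, h1, ?_⟩
  rw [siegel_smul_left hx h0 h1 hcw]
  exact hm

/-- The subspace of the `w` with `siegel Q x (c • w) ∈ H` for all scalars `c`. -/
def T (H : Subgroup (V ≃ₗ[F] V)) (Q : QuadraticForm F V) (x : V) (hx : Q x = 0) :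
    Submodule F V where
  carrier := {w | ∀ c : F, SM H Q x (c • w)}
  add_mem' {a b} ha hb := fun c => by rw [smul_add]; exact (ha c).add (hb c)
  zero_mem' := fun c => by rw [smul_zero]; exact SM.zero hx
  smul_mem' a w hw := fun c => by rw [smul_smul]; exact hw (c * a)

theorem mem_T {x : V} {hx : Q x = 0} {w : V} : w ∈ T H Q x hx ↔ ∀ c : F, SM H Q x (c • w) :=
  Iff.rfl

theorem self_mem_T {x : V} (hx : Q x = 0) : x ∈ T H Q x hx := fun c => SM.self hx c

theorem SM_of_mem_T {x : V} {hx : Q x = 0} {w : V} (hw : w ∈ T H Q x hx) : SM H Q x w := by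
  have := hw 1
  rwa [one_smul] at this

theorem perp_of_mem_T {x : V} {hx : Q x = 0} {w : V} (hw : w ∈ T H Q x hx) : polar Q x w = 0 :=
  (SM_of_mem_T hw).perp

theorem T_conj {g : V ≃ₗ[F] V} (hg : g ∈ H) (hO : g ∈ O Q) {x w : V} {hx : Q x = 0}
    (hw : w ∈ T H Q x hx) (hx' : Q (g x) = 0) : g w ∈ T H Q (g x) hx' := by
  intro c
  rw [← map_smul]
  exact (hw c).conj hg hO

theorem T_mono {H' : Subgroup (V ≃ₗ[F] V)} (hH : H ≤ H') {x : V} {hx : Q x = 0} :
    T H Q x hx ≤ T H' Q x hx := fun _ hw c => (hw c).mono hH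

theorem T_symm {x w : V} {hx : Q x = 0} (h : w ∈ T H Q x hx) (hw : Q w = 0) :
    x ∈ T H Q w hw := by
  intro c
  have h1 : Q (c • w) = 0 := by rw [QuadraticMap.map_smul, hw, smul_zero]
  have h2 := ((h c).symm h1).neg
  rw [neg_neg] at h2
  -- `siegel (c w) x = siegel w (c x)`
  obtain ⟨_, h3, hm⟩ := h2
  have h4 : polar Q w (c • x) = 0 := by
    rw [polar_smul_right, ← polar_smul_left, h3]
  refine ⟨hw, h4, ?_⟩
  rw [← siegel_smul_left hw h1 h3 h4]
  exact hm

/-- All Siegel transformations at the singular vector `x` lie in `H`. -/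
def Full (H : Subgroup (V ≃ₗ[F] V)) (Q : QuadraticForm F V) (x : V) : Prop :=
  Q x = 0 ∧ ∀ w, polar Q x w = 0 → SM H Q x w

theorem Full.conj {g : V ≃ₗ[F] V} (hg : g ∈ H) (hO : g ∈ O Q) {x : V} (h : Full H Q x) :
    Full H Q (g x) := by
  refine ⟨by rw [mem_O.1 hO]; exact h.1, fun w hw => ?_⟩
  obtain ⟨w, rfl⟩ := g.surjective w
  rw [polar_map hO] at hw
  exact (h.2 w hw).conj hg hO

theorem Full.smul {x : V} (h : Full H Q x) (c : F) : Full H Q (c • x) := by
  refine ⟨by rw [QuadraticMap.map_smul, h.1, smul_zero], fun w hw => ?_⟩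
  by_cases hc : c = 0
  · subst hc
    have h0 : SM H Q x ((0 : F) • w) := by rw [zero_smul]; exact SM.zero h.1
    obtain ⟨hx, hcw, hm⟩ := h0
    have h1 : Q ((0 : F) • x) = 0 := by rw [QuadraticMap.map_smul, hx, smul_zero]
    refine ⟨h1, hw, ?_⟩
    rw [siegel_smul_left hx h1 hw hcw]
    exact hm
  · have h1 : polar Q x w = 0 := by
      rw [polar_smul_left, smul_eq_mul] at hw
      rcases mul_eq_zero.1 hw with h | h
      · exact absurd h hc
      · exact h
    exact (h.2 (c • w) (by rw [polar_smul_right, h1, smul_zero])).smul_left h1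

theorem full_of_T_eq {x : V} {hx : Q x = 0} (h : ∀ w, polar Q x w = 0 → w ∈ T H Q x hx) :
    Full H Q x := ⟨hx, fun w hw => SM_of_mem_T (h w hw)⟩

theorem siegel_partner_apply {x y y' : V} (h : Hyp Q x y) (h' : Hyp Q x y')
    (hw : polar Q x (y' - y) = 0) : siegel Q x (y' - y) h.left hw y = y' := by
  have hQ' : Q (y' - y) = - polar Q y' y := by
    rw [sub_eq_add_neg, Q_add, QuadraticMap.map_neg, polar_neg_right, h.right, h'.right]
    ring
  rw [siegel_apply, h.pair, hQ', polar_sub_left, h.polar_right]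
  module

/-- If `c` is full, `a` is full and opposite to `c`, then every singular vector opposite to `c` is
full. -/
theorem Full.opp (hO : H ≤ O Q) {a c d : V} (ha : Full H Q a) (hc : Full H Q c)
    (hca : polar Q c a ≠ 0) (hd : Q d = 0) (hcd : polar Q c d ≠ 0) : Full H Q d := by
  have h1 : Hyp Q c ((polar Q c a)⁻¹ • a) :=
    ⟨hc.1, by rw [QuadraticMap.map_smul, ha.1, smul_zero],
      by rw [polar_smul_right, smul_eq_mul, inv_mul_cancel₀ hca]⟩
  have h2 : Hyp Q c ((polar Q c d)⁻¹ • d) :=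
    ⟨hc.1, by rw [QuadraticMap.map_smul, hd, smul_zero],
      by rw [polar_smul_right, smul_eq_mul, inv_mul_cancel₀ hcd]⟩
  have hw : polar Q c ((polar Q c d)⁻¹ • d - (polar Q c a)⁻¹ • a) = 0 := by
    rw [polar_sub_right, h1.pair, h2.pair, sub_self]
  have hm := (hc.2 _ hw).mem h1.left hw
  have h3 := siegel_partner_apply h1 h2 hw
  have h4 := (ha.smul (polar Q c a)⁻¹).conj hm (hO hm)
  rw [h3] at h4
  have h5 := h4.smul (polar Q c d)
  rwa [smul_smul, mul_inv_cancel₀ hcd, one_smul] at h5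

/-- **Two non-orthogonal full singular vectors generate `E Q`.** -/
theorem E_le_of_full (hG : Good Q) (hO : H ≤ O Q) {a b : V} (ha : Full H Q a) (hb : Full H Q b)
    (hab : polar Q a b ≠ 0) : E Q ≤ H := by
  have ha0 : a ≠ 0 := by
    rintro rfl
    exact hab (polar_zero_left _ _)
  have hba : polar Q b a ≠ 0 := by rwa [polar_comm]
  -- every nonzero singular vector is full
  have hall : ∀ d : V, Q d = 0 → d ≠ 0 → Full H Q d := by
    intro d hd hd0
    obtain ⟨c, hc, hac, hdc⟩ := good_common_opposite hG ha.1 hd ha0 hd0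
    -- `c` is opposite to `a`
    have hcf : Full H Q c := hb.opp hO ha hab hc hac
    exact ha.opp hO hcf (by rwa [polar_comm]) hd (by rwa [polar_comm])
  rw [E, Subgroup.closure_le]
  rintro _ ⟨u, w, hu, hw, rfl⟩
  by_cases hu0 : u = 0
  · subst hu0
    have : siegel Q 0 w hu hw = 1 := by
      ext v
      rw [siegel_apply]
      simp
    rw [this]
    exact H.one_mem
  · exact ((hall u hu hu0).2 w hw).mem hu hw

/-! ### Separation -/

/-- A vector outside the subspace `S` is separated from `S` by a vector orthogonal to `S`. -/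
theorem exists_sep_span [FiniteDimensional F V] (hQ : Nondeg Q) {S : Submodule F V} {x : V}
    (hx : x ∉ S) : ∃ y, (∀ s ∈ S, polar Q s y = 0) ∧ polar Q x y = 1 := by
  obtain ⟨φ, hφx, hφS⟩ := Submodule.exists_dual_map_eq_bot_of_notMem hx inferInstance
  have hinj : Function.Injective (polarBilin Q) := by
    rw [← LinearMap.ker_eq_bot, eq_bot_iff]
    intro z hz
    rw [LinearMap.mem_ker] at hz
    rw [Submodule.mem_bot]
    apply hQ
    intro y
    have := congrArg (fun f => f y) hz
    simpa using this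
  have hsurj : Function.Surjective (polarBilin Q) := by
    have := LinearMap.injective_iff_surjective_of_finrank_eq_finrank (f := polarBilin Q)
      (by rw [Subspace.dual_finrank_eq])
    exact this.1 hinj
  obtain ⟨y, hy⟩ := hsurj φ
  have hy' : ∀ z, polar Q z y = φ z := by
    intro z
    rw [← hy, polar_comm]
    simp
  refine ⟨(φ x)⁻¹ • y, fun s hs => ?_, ?_⟩
  · rw [polar_smul_right, hy']
    have : φ s ∈ S.map φ := Submodule.mem_map_of_mem hs
    rw [hφS] at this
    rw [(Submodule.mem_bot F).1 this, smul_zero]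
  · rw [polar_smul_right, hy', smul_eq_mul, inv_mul_cancel₀ hφx]

end Cfsg.Agent.H885.RootT
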